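import Groth.Agent.AlgSt.K746.ChartRep
import Groth.Agent.ThetaS.K943.CoverExt

/-!
# Descent of morphisms to a stack

`x : (Sch/U) ⟶ 𝒳`, `c : W ⟶ U`, `q : W ⟶ Z` a covering, `δ` a descent datum for `c ≫ x` along `q`:
`K600.DescMor.exists_z` : the morphism `z : (Sch/Z) ⟶ 𝒳`; `K600.DescMor.exists_pairRep`: if the descent datum is effective
on arrows then `W = U ×_𝒳 Z`.
-/

set_option autoImplicit false
set_option linter.unusedVariables false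
set_option linter.style.haveILetI false
set_option backward.isDefEq.respectTransparency false
set_option backward.isDefEq.respectTransparency.types false

universe w v u₃ v₃ u

open CategoryTheory CategoryTheory.Limits Opposite

open K734.Fib K746

namespace K600.DescMor

variable {C : Type u} [Category.{v} C] {𝒳 : BasedCategory.{v₃, u₃} C} {U W Z : C}

theorem aux {𝒟 : Type*} [Category 𝒟] {a b c d e f : 𝒟} (p1 : a ⟶ b) (r1 : b ⟶ c) (p2 : c ⟶ d) (r2 : d ⟶ e)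
    (p3 : b ⟶ f) (r3 : f ⟶ d) (h : p3 ≫ r3 = r1 ≫ p2) (p4 : a ⟶ f) (h4 : p1 ≫ p3 = p4) (r4 : f ⟶ e)
    (h5 : r3 ≫ r2 = r4) : (p1 ≫ r1) ≫ (p2 ≫ r2) = p4 ≫ r4 := by
  rw [← h4, ← h5, Category.assoc, ← reassoc_of% h, Category.assoc]

/-- A descent datum for `c ≫ x` along `q`. -/
structure DD (x : FibCat.overCat U ⥤ᵇ 𝒳) (c : W ⟶ U) (q : W ⟶ Z) where
  δ : ∀ {T : C} (a b : T ⟶ W) {u v : T ⟶ U}, a ≫ c = u → b ≫ c = v → a ≫ q = b ≫ q → (Xo x u ⟶ Xo x v)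
  vert : ∀ {T : C} (a b : T ⟶ W) {u v : T ⟶ U} (ha : a ≫ c = u) (hb : b ≫ c = v) (h : a ≫ q = b ≫ q),
    IsVert 𝒳 (δ a b ha hb h)
  nat : ∀ {T T' : C} (f : T' ⟶ T) (a b : T ⟶ W) {u v : T ⟶ U} (ha : a ≫ c = u) (hb : b ≫ c = v)
    (h : a ≫ q = b ≫ q) (a' b' : T' ⟶ W) {u' v' : T' ⟶ U} (ha' : a' ≫ c = u') (hb' : b' ≫ c = v')
    (h' : a' ≫ q = b' ≫ q) (_ : f ≫ a = a') (_ : f ≫ b = b') (hu : f ≫ u = u') (hv : f ≫ v = v'),
    δ a' b' ha' hb' h' ≫ rs x f hv = rs x f hu ≫ δ a b ha hb h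
  comp : ∀ {T : C} (a b d : T ⟶ W) {u v w : T ⟶ U} (ha : a ≫ c = u) (hb : b ≫ c = v) (hd : d ≫ c = w)
    (h : a ≫ q = b ≫ q) (h' : b ≫ q = d ≫ q) (h'' : a ≫ q = d ≫ q),
    δ a b ha hb h ≫ δ b d hb hd h' = δ a d ha hd h''

variable {x : FibCat.overCat U ⥤ᵇ 𝒳} {c : W ⟶ U} {q : W ⟶ Z} (D : DD x c q) (h𝒳 : FibCat.IsFibGrpd 𝒳.p)

include h𝒳 in
theorem DD.refl {T : C} (a : T ⟶ W) {u : T ⟶ U} (ha : a ≫ c = u) (h : a ≫ q = a ≫ q) :
    D.δ a a ha ha h = 𝟙 _ := by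
  have h1 := D.comp a a a ha ha ha h h h
  have := isIso_of_vert h𝒳 (D.vert a a ha ha h)
  rw [← cancel_epi (D.δ a a ha ha h), h1, Category.comp_id]

/-- The transition maps over arbitrary morphisms. -/
def DD.pm {T T' : C} (f : T' ⟶ T) (a : T' ⟶ W) (b : T ⟶ W) {u : T' ⟶ U} {v : T ⟶ U} (ha : a ≫ c = u)
    (hb : b ≫ c = v) (h : a ≫ q = f ≫ b ≫ q) : Xo x u ⟶ Xo x v :=
  D.δ a (f ≫ b) (v := f ≫ v) ha (by rw [Category.assoc, hb]) (by rw [Category.assoc, h]) ≫ rs x f rfl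

theorem DD.pm_lift {T T' : C} (f : T' ⟶ T) (a : T' ⟶ W) (b : T ⟶ W) {u : T' ⟶ U} {v : T ⟶ U} (ha : a ≫ c = u)
    (hb : b ≫ c = v) (h : a ≫ q = f ≫ b ≫ q) : 𝒳.p.IsHomLift f (D.pm f a b ha hb h) := by
  have h1 : 𝒳.p.IsHomLift (𝟙 T') (D.δ a (f ≫ b) (v := f ≫ v) ha (by rw [Category.assoc, hb])
      (by rw [Category.assoc, h])) := (D.vert _ _ _ _ _).lift (Xo_base x _)
  have h2 : 𝒳.p.IsHomLift (𝟙 T' ≫ f) (D.pm f a b ha hb h) := IsHomLift.comp 𝒳.p (𝟙 T') f _ _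
  rwa [Category.id_comp] at h2

theorem DD.pm_comp {T T' T'' : C} (f : T' ⟶ T) (g : T'' ⟶ T') (a : T'' ⟶ W) (b : T' ⟶ W) (d : T ⟶ W)
    {u : T'' ⟶ U} {v : T' ⟶ U} {w : T ⟶ U} (ha : a ≫ c = u) (hb : b ≫ c = v) (hd : d ≫ c = w)
    (h : a ≫ q = g ≫ b ≫ q) (h' : b ≫ q = f ≫ d ≫ q) (h'' : a ≫ q = (g ≫ f) ≫ d ≫ q) :
    D.pm g a b ha hb h ≫ D.pm f b d hb hd h' = D.pm (g ≫ f) a d ha hd h'' := by
  unfold DD.pm
  have h1 := D.nat g b (f ≫ d) (v := f ≫ w) hb (by rw [Category.assoc, hd]) (by rw [Category.assoc, h'])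
    (g ≫ b) ((g ≫ f) ≫ d) (u' := g ≫ v) (v' := (g ≫ f) ≫ w) (by rw [Category.assoc, hb])
    (by rw [Category.assoc, Category.assoc, hd, Category.assoc])
    (by rw [Category.assoc, h', Category.assoc, Category.assoc]) rfl (Category.assoc _ _ _).symm rfl
    (Category.assoc _ _ _).symm
  exact aux _ _ _ _ _ _ h1 _ (D.comp _ _ _ _ _ _ _ _ _) _ (rs_comp x f g (u := w) rfl (Category.assoc _ _ _).symm rfl)

include h𝒳 in
theorem DD.pm_rs {T T' : C} (f : T' ⟶ T) (a : T' ⟶ W) (b : T ⟶ W) {u : T' ⟶ U} {v : T ⟶ U} (ha : a ≫ c = u)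
    (hb : b ≫ c = v) (h : a ≫ q = f ≫ b ≫ q) (hf : f ≫ b = a) (hu : f ≫ v = u) :
    D.pm f a b ha hb h = rs x f hu := by
  subst hf hu
  unfold DD.pm
  rw [D.refl h𝒳, Category.id_comp]

theorem DD.pm_id {T : C} (a b : T ⟶ W) {u v : T ⟶ U} (ha : a ≫ c = u) (hb : b ≫ c = v)
    (h : a ≫ q = 𝟙 _ ≫ b ≫ q) : D.pm (𝟙 T) a b ha hb h = D.δ a b ha hb (by rw [h, Category.id_comp]) := by
  subst ha hb
  unfold DD.pm
  have h1 := D.nat (𝟙 T) a b (u := a ≫ c) (v := b ≫ c) rfl rfl (by rw [h, Category.id_comp]) a (𝟙 _ ≫ b)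
    (u' := a ≫ c) (v' := 𝟙 _ ≫ b ≫ c) rfl (Category.assoc _ _ _) (by rw [h, Category.assoc]) (Category.id_comp _) rfl
    (Category.id_comp _) rfl
  rw [h1, rs_id, Category.id_comp]

/-- The objects over `Z` which lift to `W`. -/
def LP (q : W ⟶ Z) (g : (FibCat.overCat Z).obj) : Prop := ∃ a : g.left ⟶ W, a ≫ q = g.hom

theorem closedInto_LP (q : W ⟶ Z) : K943.CoverExt.ClosedInto (LP q) := by
  rintro a b m ⟨l, hl⟩
  refine ⟨m.left ≫ l, ?_⟩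
  rw [Category.assoc, hl]
  exact Over.w m

noncomputable def lft {g : (FibCat.overCat Z).obj} (h : LP q g) : g.left ⟶ W := h.choose

theorem lft_q {g : (FibCat.overCat Z).obj} (h : LP q g) : lft h ≫ q = g.hom := h.choose_spec

theorem map_eq {g g' : (K943.CoverExt.sub (FibCat.overCat Z) (LP q)).obj} (m : g ⟶ g') :
    lft g.property ≫ q = m.hom.left ≫ lft g'.property ≫ q := by
  rw [lft_q, lft_q]
  exact (Over.w m.hom).symm

/-- The functor on the objects which lift. -/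
noncomputable def pre : K943.CoverExt.sub (FibCat.overCat Z) (LP q) ⥤ᵇ 𝒳 where
  toFunctor :=
    { obj := fun g => Xo x (lft g.property ≫ c)
      map := fun {g g'} m => D.pm m.hom.left (lft g.property) (lft g'.property) rfl rfl (map_eq m)
      map_id := fun g => by
        refine (D.pm_rs h𝒳 _ _ _ _ _ _ (Category.id_comp _) (Category.id_comp _)).trans ?_
        exact rs_id x _ _
      map_comp := fun {g g' g''} m m' => by
        exact (D.pm_comp m'.hom.left m.hom.left _ _ _ rfl rfl rfl (map_eq m) (map_eq m') (map_eq (m ≫ m'))).symm }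
  w := CategoryTheory.Functor.ext (fun g => Xo_base x _) (fun g g' m => by
    have h1 := D.pm_lift m.hom.left (lft g.property) (lft g'.property) rfl rfl (map_eq m)
    exact IsHomLift.fac' 𝒳.p m.hom.left _)

/-- The morphisms `T ⟶ Z` lifting to `W` cover. -/
def Cov (q : W ⟶ Z) (J : GrothendieckTopology C) : Prop := Sieve.generate (Presieve.singleton q) ∈ J Z

theorem mem_of_cov {J : GrothendieckTopology C} (hq : Cov q J) {T : C} (v : T ⟶ Z) :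
    (Sieve.generate (Presieve.singleton q)).pullback v ∈ J T := J.pullback_stable v hq

theorem exists_of_mem {T T' : C} (v : T ⟶ Z) (f : T' ⟶ T)
    (h : (Sieve.generate (Presieve.singleton q)).pullback v f) : ∃ a : T' ⟶ W, a ≫ q = f ≫ v := by
  obtain ⟨Y, a, p, hp, e⟩ := h
  cases hp
  exact ⟨a, e⟩

variable (J : GrothendieckTopology C)

instance (Z : C) : FibCat.IsFibGrpd (FibCat.overCat Z).p := isFibGrpd_overCat Z

theorem cov_mem (hq : Cov q J) (b : (FibCat.overCat Z).obj) :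
    K943.CoverExt.cov (closedInto_LP q) b ∈ J ((FibCat.overCat Z).p.obj b) := by
  refine J.superset_covering ?_ (mem_of_cov hq b.hom)
  intro T' f hf
  obtain ⟨a, ha⟩ := exists_of_mem b.hom f hf
  refine ⟨Over.mk (f ≫ b.hom), Over.homMk f rfl, ⟨a, ha⟩, ?_⟩
  exact IsHomLift.map (FibCat.overCat Z).p (Over.homMk f rfl : Over.mk (f ≫ b.hom) ⟶ b)

/-- Compatible arrows to a morphism `z`. -/
structure Kap (z : FibCat.overCat Z ⥤ᵇ 𝒳) where
  κ : ∀ {T : C} (a : T ⟶ W) {u : T ⟶ U} {g : T ⟶ Z}, a ≫ c = u → a ≫ q = g → (Xo x u ⟶ Xo z g)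
  vert : ∀ {T : C} (a : T ⟶ W) {u : T ⟶ U} {g : T ⟶ Z} (hu : a ≫ c = u) (hg : a ≫ q = g), IsVert 𝒳 (κ a hu hg)
  nat : ∀ {T T' : C} (f : T' ⟶ T) (a : T ⟶ W) (a' : T' ⟶ W) {u : T ⟶ U} {g : T ⟶ Z} {u' : T' ⟶ U} {g' : T' ⟶ Z}
    (hu : a ≫ c = u) (hg : a ≫ q = g) (hu' : a' ≫ c = u') (hg' : a' ≫ q = g') (_ : f ≫ a = a') (h1 : f ≫ u = u')
    (h2 : f ≫ g = g'), κ a' hu' hg' ≫ rs z f h2 = rs x f h1 ≫ κ a hu hg
  comp : ∀ {T : C} (a b : T ⟶ W) {u v : T ⟶ U} {g : T ⟶ Z} (hu : a ≫ c = u) (hv : b ≫ c = v) (ha : a ≫ q = g)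
    (hb : b ≫ q = g) (h : a ≫ q = b ≫ q), D.δ a b hu hv h ≫ κ b hv hb = κ a hu ha

section Z

variable {J}

/-- the member of `sub` -/
def sb {T : C} {a : T ⟶ W} {g : T ⟶ Z} (h : a ≫ q = g) : (K943.CoverExt.sub (FibCat.overCat Z) (LP q)).obj :=
  ⟨Over.mk g, ⟨a, h⟩⟩

theorem sb_q {T : C} {a : T ⟶ W} {g : T ⟶ Z} (h : a ≫ q = g) : lft (sb h).property ≫ q = g := lft_q (sb h).property

/-- the arrow of `sub` -/
def sbm {T T' : C} (f : T' ⟶ T) {a : T ⟶ W} {g : T ⟶ Z} (h : a ≫ q = g) {a' : T' ⟶ W} {g' : T' ⟶ Z} (h' : a' ≫ q = g')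
    (e : f ≫ g = g') : sb h' ⟶ sb h := ObjectProperty.homMk (Over.homMk f e : Over.mk g' ⟶ Over.mk g)

theorem exists_z (hq : Cov q J) (hst : Stk.IsStack J 𝒳) : ∃ z : FibCat.overCat Z ⥤ᵇ 𝒳, Nonempty (Kap D z) := by
  have h𝒳 := hst.1
  haveI := hst.1
  obtain ⟨z, ⟨ι⟩⟩ := K943.CoverExt.exists_ext (closedInto_LP q) (fun b => hst.2 _ (cov_mem J hq b)) (pre D h𝒳)
  refine ⟨z, ⟨⟨fun {T} a {u g} hu hg => D.pm (𝟙 T) a (lft (sb hg).property) hu rfl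
    (by rw [Category.id_comp, hg, sb_q]) ≫ (app ι (sb hg)).inv, ?_, ?_, ?_⟩⟩⟩
  · intro T a u g hu hg
    refine IsVert.comp ?_ (app_vert ι _).inv
    exact IsVert.of_lift (D.pm_lift (𝟙 T) _ _ _ _ _)
  · intro T T' f a a' u g u' g' hu hg hu' hg' hf h1 h2
    have e1 : rs z f h2 = (BasedFunctor.comp (K943.CoverExt.subI (FibCat.overCat Z) (LP q)) z).map (sbm f hg hg' h2) := rfl
    have e2 := app_nat_inv ι (sbm f hg hg' h2)
    have e3 : (pre D h𝒳).map (sbm f hg hg' h2) = D.pm f (lft (sb hg').property) (lft (sb hg).property) rfl rfl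
      (map_eq (sbm f hg hg' h2)) := rfl
    have e4 := D.pm_comp f (𝟙 T') a' (lft (sb hg').property) (lft (sb hg).property) hu' rfl rfl
      (by rw [Category.id_comp, hg', sb_q]) (map_eq (sbm f hg hg' h2))
      (by rw [Category.id_comp, sb_q, hg', h2])
    have e5 := D.pm_comp (𝟙 T) f a' a (lft (sb hg).property) hu' hu rfl (by rw [hg, hg', h2])
      (by rw [Category.id_comp, hg, sb_q]) (by rw [Category.comp_id, sb_q, hg', h2])
    have e6 := D.pm_rs h𝒳 f a' a hu' hu (by rw [hg, hg', h2]) hf h1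
    have e7 : D.pm (𝟙 T' ≫ f) a' (lft (sb hg).property) hu' rfl (by rw [Category.id_comp, sb_q, hg', h2]) =
      D.pm (f ≫ 𝟙 T) a' (lft (sb hg).property) hu' rfl (by rw [Category.comp_id, sb_q, hg', h2]) := by
      congr 1
      rw [Category.id_comp, Category.comp_id]
    rw [e1, Category.assoc, ← e2, e3, reassoc_of% e4, ← e6, reassoc_of% e5]
  · intro T a b u v g hu hv ha hb h
    have e1 := D.pm_id a b hu hv (by rw [h, Category.id_comp])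
    have e2 := D.pm_comp (𝟙 T) (𝟙 T) a b (lft (sb hb).property) hu hv rfl (by rw [h, Category.id_comp])
      (by rw [Category.id_comp, hb, sb_q]) (by rw [Category.id_comp, Category.id_comp, ha, sb_q])
    have e7 : D.pm (𝟙 T ≫ 𝟙 T) a (lft (sb hb).property) hu rfl
        (by rw [Category.id_comp, Category.id_comp, ha, sb_q]) =
      D.pm (𝟙 T) a (lft (sb ha).property) hu rfl (by rw [Category.id_comp, sb_q, ha]) := by
      congr 1
      rw [Category.id_comp]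
    rw [← e1, reassoc_of% e2]
    rfl

end Z

section Rep

variable {J} {D} {z : FibCat.overCat Z ⥤ᵇ 𝒳} (K : Kap D z)

/-- Effectivity on arrows. -/
def DD.Eff (D : DD x c q) : Prop := ∀ {T : C} (a : T ⟶ W) {u v : T ⟶ U} (hu : a ≫ c = u) (ψ : Xo x u ⟶ Xo x v),
  IsVert 𝒳 ψ → ∃! b : T ⟶ W, ∃ (hb : b ≫ c = v) (h : a ≫ q = b ≫ q), D.δ a b hu hb h = ψ

/-- `r` gives the restriction of `φ`. -/
def IsK {T : C} {u : T ⟶ U} {v : T ⟶ Z} (φ : Xo x u ⟶ Xo z v) {T' : C} (f : T' ⟶ T) (r : T' ⟶ W) : Prop :=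
  ∃ (u' : T' ⟶ U) (v' : T' ⟶ Z) (hu : f ≫ u = u') (hv : f ≫ v = v') (h1 : r ≫ c = u') (h2 : r ≫ q = v'),
    K.κ r h1 h2 ≫ rs z f hv = rs x f hu ≫ φ

variable {K} {T : C} {u : T ⟶ U} {v : T ⟶ Z} {φ : Xo x u ⟶ Xo z v} {T' : C} {f : T' ⟶ T}

theorem IsK.restrict {r : T' ⟶ W} (h : IsK K φ f r) {T'' : C} (g : T'' ⟶ T') : IsK K φ (g ≫ f) (g ≫ r) := by
  obtain ⟨u', v', rfl, rfl, h1, h2, e⟩ := h
  refine ⟨g ≫ f ≫ u, g ≫ f ≫ v, Category.assoc _ _ _, Category.assoc _ _ _, by rw [Category.assoc, h1],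
    by rw [Category.assoc, h2], ?_⟩
  have e1 := K.nat g r (g ≫ r) h1 h2 (by rw [Category.assoc, h1]) (by rw [Category.assoc, h2]) rfl rfl rfl
  rw [← rs_comp z f g rfl rfl (Category.assoc _ _ _), ← rs_comp x f g rfl rfl (Category.assoc _ _ _), reassoc_of% e1,
    e, Category.assoc]

include h𝒳 in
theorem IsK.unique (hE : D.Eff) {r r' : T' ⟶ W} (h : IsK K φ f r) (h' : IsK K φ f r') : r = r' := by
  obtain ⟨u', v', rfl, rfl, h1, h2, e⟩ := h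
  obtain ⟨u'', v'', h3, h4, h5, h6, e'⟩ := h'
  subst h3 h4
  have hk : K.κ r h1 h2 = K.κ r' h5 h6 :=
    fac_unique' h𝒳 (rs z f rfl) ((K.vert r h1 h2).lift (Xo_base x _)) ((K.vert r' h5 h6).lift (Xo_base x _))
      (e.trans e'.symm)
  have hi := isIso_of_vert h𝒳 (K.vert r' h5 h6)
  have h7 := K.comp r r' h1 h5 h2 h6 (h2.trans h6.symm)
  have h8 : D.δ r r' h1 h5 (h2.trans h6.symm) = 𝟙 _ := by
    rw [← cancel_mono (K.κ r' h5 h6), h7, hk, Category.id_comp]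
  exact (hE r h1 (𝟙 _) (IsVert.id _)).unique ⟨h1, rfl, D.refl h𝒳 _ _ _⟩ ⟨h5, h2.trans h6.symm, h8⟩

include h𝒳 in
theorem IsK.exists (hE : D.Eff) (hφ : IsVert 𝒳 φ) {a : T' ⟶ W} (ha : a ≫ q = f ≫ v) : ∃ r : T' ⟶ W, IsK K φ f r := by
  -- the restriction of `φ`
  have h1 : 𝒳.p.IsHomLift (𝟙 T' ≫ f) (rs x f (u := u) rfl ≫ φ) := by
    have h0 := hφ.lift (Xo_base x u)
    have := IsHomLift.comp 𝒳.p f (𝟙 T) (rs x f (u := u) rfl) φ
    rw [Category.comp_id] at this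
    rw [Category.id_comp]
    exact this
  obtain ⟨φ', h3, h4⟩ := exists_fac' h𝒳 (rs_lift z f (u := v) rfl) h1
  have hφ' : IsVert 𝒳 φ' := IsVert.of_lift h3
  have := isIso_of_vert h𝒳 hφ'
  have hk := K.vert a rfl ha
  obtain ⟨r, ⟨hr, h, e⟩, -⟩ := hE a rfl (K.κ a rfl ha ≫ CategoryTheory.inv φ') (hk.comp hφ'.isIso_inv)
  have hg : r ≫ q = f ≫ v := h.symm.trans ha
  refine ⟨r, f ≫ u, f ≫ v, rfl, rfl, hr, hg, ?_⟩
  have h5 := K.comp a r rfl hr ha hg h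
  rw [e, Category.assoc] at h5
  have := isIso_of_vert h𝒳 hk
  have h6 : CategoryTheory.inv φ' ≫ K.κ r hr hg = 𝟙 _ := by
    rw [← cancel_epi (K.κ a rfl ha), h5, Category.comp_id]
  have h7 : K.κ r hr hg = φ' := by
    rw [← cancel_epi (CategoryTheory.inv φ'), h6, IsIso.inv_hom_id]
  rw [h7, h4]

theorem ext_of_sieve (hst : Stk.IsStack J 𝒳) {R : Sieve T} (hR : R ∈ J T) {φ φ' : Xo x u ⟶ Xo z v}
    (hφ : IsVert 𝒳 φ) (hφ' : IsVert 𝒳 φ') (h : ∀ {T' : C} (f : T' ⟶ T), R f → rs x f rfl ≫ φ = rs x f rfl ≫ φ') :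
    φ = φ' := by
  haveI := hst.1
  haveI := hφ.lift (Xo_base x u)
  haveI := hφ'.lift (Xo_base x u)
  refine K943.FibBase.hom_ext_of_sieve' (Xo_base x u) (𝟙 T) (K943.CoverExt.prestackFor_of_stackFor (hst.2 R hR)) ?_
  intro z₀ k hk
  have h1 : 𝒳.p.IsHomLift (𝟙 _ ≫ 𝒳.p.map k ≫ eqToHom (Xo_base x u)) k := by
    rw [Category.id_comp]; infer_instance
  obtain ⟨s, -, e⟩ := exists_fac' hst.1 (rs_lift x (𝒳.p.map k ≫ eqToHom (Xo_base x u)) (u := u) rfl) h1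
  have h2 := h _ hk
  calc k ≫ φ = (s ≫ rs x (𝒳.p.map k ≫ eqToHom (Xo_base x u)) rfl) ≫ φ := by rw [e]
    _ = (s ≫ rs x (𝒳.p.map k ≫ eqToHom (Xo_base x u)) rfl) ≫ φ' :=
      (Category.assoc _ _ _).trans ((congrArg (fun t => s ≫ t) h2).trans (Category.assoc _ _ _).symm)
    _ = k ≫ φ' := by rw [e]

theorem exists_isK (hq : Cov q J) (hst : Stk.IsStack J 𝒳) (hE : D.Eff) [J.Subcanonical] (hφ : IsVert 𝒳 φ) :
    ∃ (r : T ⟶ W) (h1 : r ≫ c = u) (h2 : r ≫ q = v), K.κ r h1 h2 = φ := by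
  have hR := mem_of_cov hq v
  have ex : ∀ ⦃T' : C⦄ (f : T' ⟶ T) (hf : (Sieve.generate (Presieve.singleton q)).pullback v f),
      ∃ r : T' ⟶ W, IsK K φ f r := fun T' f hf => by
    obtain ⟨a, ha⟩ := exists_of_mem v f hf
    exact IsK.exists hst.1 hE hφ ha
  choose r hr using ex
  have hsh : ∀ Y : C, Presieve.IsSheafFor (yoneda.obj Y) ((Sieve.generate (Presieve.singleton q)).pullback v).arrows :=
    fun Y => GrothendieckTopology.Subcanonical.isSheaf_of_isRepresentable (yoneda.obj Y) _ hR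
  obtain ⟨t, ht, -⟩ := hsh W (fun T' f hf => r f hf) (by
    intro Y₁ Y₂ T' g₁ g₂ f₁ f₂ h₁ h₂ e
    change g₁ ≫ r f₁ h₁ = g₂ ≫ r f₂ h₂
    have e1 := (hr f₁ h₁).restrict g₁
    have e2 := (hr f₂ h₂).restrict g₂
    rw [← e] at e2
    exact e1.unique hst.1 hE e2)
  have ht' : ∀ {T' : C} (f : T' ⟶ T) (hf : (Sieve.generate (Presieve.singleton q)).pullback v f), f ≫ t = r f hf :=
    fun f hf => ht f hf
  have h1 : t ≫ c = u := by
    refine (hsh U).isSeparatedFor.ext ?_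
    intro T' f hf
    change f ≫ t ≫ c = f ≫ u
    obtain ⟨u', v', h3, h4, h5, h6, e⟩ := hr f hf
    rw [← Category.assoc, ht' f hf, h5, h3]
  have h2 : t ≫ q = v := by
    refine (hsh Z).isSeparatedFor.ext ?_
    intro T' f hf
    change f ≫ t ≫ q = f ≫ v
    obtain ⟨u', v', h3, h4, h5, h6, e⟩ := hr f hf
    rw [← Category.assoc, ht' f hf, h6, h4]
  refine ⟨t, h1, h2, ?_⟩
  refine ext_of_sieve hst hR (K.vert t h1 h2) hφ ?_
  intro T' f hf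
  obtain ⟨u', v', rfl, rfl, h5, h6, e⟩ := hr f hf
  rw [← e]
  exact (K.nat f t (r f hf) h1 h2 h5 h6 (ht' f hf) rfl rfl).symm

/-- `W` represents `U ×_𝒳 Z`. -/
theorem exists_pairRep (hq : Cov q J) (hst : Stk.IsStack J 𝒳) (hE : D.Eff) [J.Subcanonical] (K : Kap D z) :
    ∃ P : PairRep x z W, P.s = c ∧ P.t = q := by
  have h𝒳 := hst.1
  have e1 : 𝟙 W ≫ c = c := Category.id_comp _
  have e2 : 𝟙 W ≫ q = q := Category.id_comp _
  refine ⟨⟨c, q, K.κ (𝟙 W) e1 e2, K.vert _ _ _, ?_⟩, rfl, rfl⟩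
  intro T u v φ hφ
  have key : ∀ (r : T ⟶ W) (hs : r ≫ c = u) (ht : r ≫ q = v),
      φ ≫ rs z r ht = rs x r hs ≫ K.κ (𝟙 W) e1 e2 ↔ K.κ r hs ht = φ := by
    intro r hs ht
    have h1 := K.nat r (𝟙 W) r e1 e2 hs ht (Category.comp_id _) hs ht
    rw [← h1]
    constructor
    · intro h
      exact (fac_unique' h𝒳 (rs z r ht) (hφ.lift (Xo_base x _)) ((K.vert r hs ht).lift (Xo_base x _)) h).symm
    · intro h
      rw [h]
  obtain ⟨r, h1, h2, h3⟩ := exists_isK (K := K) hq hst hE hφ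
  refine ⟨r, ⟨h1, h2, (key r h1 h2).2 h3⟩, ?_⟩
  rintro r' ⟨h1', h2', h3'⟩
  have h4 := (key r' h1' h2').1 h3'
  have i1 : IsK K φ (𝟙 T) r := ⟨_, _, Category.id_comp _, Category.id_comp _, h1, h2, by
    rw [rs_id, rs_id, Category.comp_id, Category.id_comp, h3]⟩
  have i2 : IsK K φ (𝟙 T) r' := ⟨_, _, Category.id_comp _, Category.id_comp _, h1', h2', by
    rw [rs_id, rs_id, Category.comp_id, Category.id_comp, h4]⟩
  exact i2.unique h𝒳 hE i1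

end Rep

end K600.DescMor
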