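import Groth.Agent.AlgSt.K600.QuotSch
import Groth.Agent.AlgSt.K600.DescMor
import Groth.Agent.AlgSp.K629.Fppf
import Groth.Agent.AlgSt.K747.Cover

/-!
# The descent datum of a groupoid action

`K600.DescAct.dd`: for a chart `x : (Sch/U) ⟶ 𝒳` with groupoid `R`, an action of `R` on `w : W ⟶ U` with quotient
`q : W ⟶ Z` (`R ×_U W = W ×_Z W`) gives a descent datum, effective on arrows.
`K600.DescAct.exists_pairRep`: there is `z : (Sch/Z) ⟶ 𝒳` with `U ×_𝒳 Z = W`.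
-/

set_option autoImplicit false
set_option linter.unusedVariables false
set_option linter.style.haveILetI false
set_option backward.isDefEq.respectTransparency false
set_option backward.isDefEq.respectTransparency.types false

universe u₃ u

open CategoryTheory CategoryTheory.Limits AlgebraicGeometry Opposite

open K734.Fib K746 K746.PairRep K746.ChartRep K600.QuotSch

namespace K600.DescAct

variable {S : Scheme.{u}} {𝒳 : BasedCategory.{u, u₃} (Over S)} {U R : Over S}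
  {x : FibCat.overCat U ⥤ᵇ 𝒳} (G : ChartRep x R) (h𝒳 : FibCat.IsFibGrpd 𝒳.p)
  {W : Scheme.{u}} {w : W ⟶ (G.toOGpd h𝒳).toGpd.U} (A : Act (G.toOGpd h𝒳).toGpd w)

/-- `W ⟶ U` over `S`. -/
noncomputable def cS : WS w ⟶ U := Over.homMk w rfl

/-- `R ×_U W ⟶ R` over `S`. -/
noncomputable def fS : RS w ⟶ R := Over.homMk (pullback.fst (G.toOGpd h𝒳).toGpd.s w) rfl

theorem fS_s : fS G h𝒳 (w := w) ≫ G.s = sS w ≫ cS G h𝒳 := by
  apply Over.OverMorphism.ext
  exact pullback.condition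

theorem fS_t : fS G h𝒳 (w := w) ≫ G.t = tS A ≫ cS G h𝒳 := by
  apply Over.OverMorphism.ext
  exact A.act_comp_c.symm

variable {G h𝒳} {A} {Z : Over S} {q : WS w ⟶ Z} (hpb : IsPullback (tS A) (sS w) q q)

/-- The point of `R ×_U W` given by two points with the same image in `Z`. -/
noncomputable def mm {T : Over S} (a b : T ⟶ WS w) (h : a ≫ q = b ≫ q) : T ⟶ RS w := hpb.lift b a h.symm

theorem mm_s {T : Over S} (a b : T ⟶ WS w) (h : a ≫ q = b ≫ q) : mm hpb a b h ≫ sS w = a := hpb.lift_snd _ _ _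

theorem mm_t {T : Over S} (a b : T ⟶ WS w) (h : a ≫ q = b ≫ q) : mm hpb a b h ≫ tS A = b := hpb.lift_fst _ _ _

include hpb in
theorem eq_mm {T : Over S} (m m' : T ⟶ RS w) (hs : m ≫ sS w = m' ≫ sS w) (ht : m ≫ tS A = m' ≫ tS A) : m = m' :=
  hpb.hom_ext ht hs

theorem mm_fs {T : Over S} (a b : T ⟶ WS w) {u : T ⟶ U} (ha : a ≫ cS G h𝒳 = u) (h : a ≫ q = b ≫ q) :
    (mm hpb a b h ≫ fS G h𝒳) ≫ G.s = u := by
  rw [Category.assoc, fS_s, ← Category.assoc, mm_s, ha]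

theorem mm_ft {T : Over S} (a b : T ⟶ WS w) {v : T ⟶ U} (hb : b ≫ cS G h𝒳 = v) (h : a ≫ q = b ≫ q) :
    (mm hpb a b h ≫ fS G h𝒳) ≫ G.t = v := by
  rw [Category.assoc, fS_t G h𝒳 A, ← Category.assoc, mm_t, hb]

theorem comp_mm {T T' : Over S} (f : T' ⟶ T) (a b : T ⟶ WS w) (h : a ≫ q = b ≫ q) (a' b' : T' ⟶ WS w)
    (h' : a' ≫ q = b' ≫ q) (ha : f ≫ a = a') (hb : f ≫ b = b') : f ≫ mm hpb a b h = mm hpb a' b' h' := by
  refine eq_mm hpb _ _ ?_ ?_
  · rw [Category.assoc, mm_s, mm_s, ha]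
  · rw [Category.assoc, mm_t, mm_t, hb]

theorem mm_mul {T : Over S} (a b d : T ⟶ WS w) (h : a ≫ q = b ≫ q) (h' : b ≫ q = d ≫ q) (h'' : a ≫ q = d ≫ q)
    (e : (mm hpb b d h' ≫ fS G h𝒳) ≫ G.s = (mm hpb a b h ≫ fS G h𝒳) ≫ G.t) :
    G.mul h𝒳 (mm hpb b d h' ≫ fS G h𝒳) (mm hpb a b h ≫ fS G h𝒳) e = mm hpb a d h'' ≫ fS G h𝒳 := by
  let m₁ := mm hpb b d h'
  let m₂ := mm hpb a b h
  have h1 : m₁.left ≫ pullback.snd (G.toOGpd h𝒳).toGpd.s w = m₂.left ≫ A.act := by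
    have := (mm_s hpb b d h').trans (mm_t hpb a b h).symm
    exact congrArg CommaMorphism.left this
  have h2 := (G.toOGpd h𝒳).lift_c' (m₁ ≫ fS G h𝒳) (m₂ ≫ fS G h𝒳) e
  have h3 : A.comp m₁.left m₂.left h1 ≫ pullback.fst _ _ =
      (G.mul h𝒳 (m₁ ≫ fS G h𝒳) (m₂ ≫ fS G h𝒳) e).left := by
    rw [A.comp_fst]
    exact h2
  let m₃ : T ⟶ RS w := Over.homMk (A.comp m₁.left m₂.left h1) (by
    change A.comp m₁.left m₂.left h1 ≫ pullback.fst _ _ ≫ (G.toOGpd h𝒳).toGpd.pR = T.hom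
    rw [← Category.assoc, h3]
    exact Over.w (G.mul h𝒳 (m₁ ≫ fS G h𝒳) (m₂ ≫ fS G h𝒳) e))
  have h4 : m₃ = mm hpb a d h'' := by
    refine eq_mm hpb _ _ ?_ ?_
    · rw [mm_s, ← mm_s hpb a b h]
      apply Over.OverMorphism.ext
      exact A.comp_snd _ _ h1
    · rw [mm_t, ← mm_t hpb b d h']
      apply Over.OverMorphism.ext
      exact A.comp_comp_act _ _ h1
  rw [← h4]
  apply Over.OverMorphism.ext
  exact h3.symm

variable (G h𝒳) in
/-- The descent datum. -/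
noncomputable def dd : K600.DescMor.DD x (cS G h𝒳) q where
  δ := fun {T} a b {u v} ha hb h =>
    (G.exists_arr h𝒳 (mm hpb a b h ≫ fS G h𝒳) (mm_fs hpb a b ha h) (mm_ft hpb a b hb h)).choose
  vert := fun {T} a b {u v} ha hb h =>
    (G.exists_arr h𝒳 (mm hpb a b h ≫ fS G h𝒳) (mm_fs hpb a b ha h) (mm_ft hpb a b hb h)).choose_spec.vert
  nat := fun {T T'} f a b {u v} ha hb h a' b' {u' v'} ha' hb' h' hfa hfb hu hv => by
    have h1 := (G.exists_arr h𝒳 (mm hpb a b h ≫ fS G h𝒳) (mm_fs hpb a b ha h) (mm_ft hpb a b hb h)).choose_spec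
    have h2 := (G.exists_arr h𝒳 (mm hpb a' b' h' ≫ fS G h𝒳) (mm_fs hpb a' b' ha' h')
      (mm_ft hpb a' b' hb' h')).choose_spec
    refine h1.res_w h𝒳 f hu hv ?_
    rw [← Category.assoc, comp_mm hpb f a b h a' b' h' hfa hfb]
    exact h2
  comp := fun {T} a b d {u v t} ha hb hd h h' h'' => by
    have h1 := (G.exists_arr h𝒳 (mm hpb a b h ≫ fS G h𝒳) (mm_fs hpb a b ha h) (mm_ft hpb a b hb h)).choose_spec
    have h2 := (G.exists_arr h𝒳 (mm hpb b d h' ≫ fS G h𝒳) (mm_fs hpb b d hb h') (mm_ft hpb b d hd h')).choose_spec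
    have h3 := (G.exists_arr h𝒳 (mm hpb a d h'' ≫ fS G h𝒳) (mm_fs hpb a d ha h'')
      (mm_ft hpb a d hd h'')).choose_spec
    have e := (mm_fs hpb b d hb h').trans (mm_ft hpb a b hb h).symm
    have h4 := isArr_mul h𝒳 h1 h2 e
    rw [mm_mul hpb a b d h h' h'' e] at h4
    exact h4.arr_unique h𝒳 h3

theorem isArr_dd {T : Over S} (a b : T ⟶ WS w) {u v : T ⟶ U} (ha : a ≫ cS G h𝒳 = u) (hb : b ≫ cS G h𝒳 = v)
    (h : a ≫ q = b ≫ q) : G.IsArr (mm hpb a b h ≫ fS G h𝒳) ((dd G h𝒳 hpb).δ a b ha hb h) :=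
  (G.exists_arr h𝒳 (mm hpb a b h ≫ fS G h𝒳) (mm_fs hpb a b ha h) (mm_ft hpb a b hb h)).choose_spec

theorem eff_dd : (dd G h𝒳 hpb).Eff := by
  intro T a u v hu ψ hψ
  obtain ⟨ρ, hρ⟩ := G.exists_pt ψ hψ
  have e1 : ρ.left ≫ (G.toOGpd h𝒳).toGpd.s = a.left ≫ w := congrArg CommaMorphism.left (hρ.hs.trans hu.symm)
  let m : T ⟶ RS w := Over.homMk (pullback.lift ρ.left a.left e1) (by
    change pullback.lift ρ.left a.left e1 ≫ pullback.fst _ _ ≫ (G.toOGpd h𝒳).toGpd.pR = T.hom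
    rw [pullback.lift_fst_assoc]
    exact Over.w ρ)
  have m1 : m ≫ sS w = a := by
    apply Over.OverMorphism.ext
    exact pullback.lift_snd _ _ _
  have m2 : m ≫ fS G h𝒳 = ρ := by
    apply Over.OverMorphism.ext
    exact pullback.lift_fst _ _ _
  have m3 : (m ≫ tS A) ≫ cS G h𝒳 = v := by
    rw [Category.assoc, ← fS_t G h𝒳 A, ← Category.assoc, m2, hρ.ht]
  have m4 : a ≫ q = (m ≫ tS A) ≫ q := by
    rw [← m1, Category.assoc, Category.assoc, hpb.w]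
  have m5 : mm hpb a (m ≫ tS A) m4 = m := by
    refine eq_mm hpb _ _ ?_ ?_
    · rw [mm_s, m1]
    · rw [mm_t]
  refine ⟨m ≫ tS A, ⟨m3, m4, ?_⟩, ?_⟩
  · have h1 := isArr_dd hpb a (m ≫ tS A) hu m3 m4
    rw [m5, m2] at h1
    exact h1.arr_unique h𝒳 hρ
  · rintro b ⟨hb, h, e⟩
    have h1 := isArr_dd hpb a b hu hb h
    rw [e] at h1
    have h2 := h1.pt_unique hρ
    have h3 : mm hpb a b h = m := by
      apply Over.OverMorphism.ext
      apply pullback.hom_ext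
      · have := h2.trans m2.symm
        exact congrArg CommaMorphism.left this
      · have := (mm_s hpb a b h).trans m1.symm
        exact congrArg CommaMorphism.left this
    rw [← h3, mm_t]

theorem cov_of_etale {W Z : Over S} (q : W ⟶ Z) [Etale q.left] [Surjective q.left] :
    K600.DescMor.Cov q (AlgSp.J S) := by
  refine K629.Fppf.mem_of_cover (ι := PUnit) (fun _ => W) (fun _ => q) (fun _ => ?_) (fun _ => ?_) (fun v => ?_)
  · exact Sieve.le_generate _ _ _ (Presieve.singleton_self q)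
  · exact ⟨inferInstance, inferInstance⟩
  · obtain ⟨y, hy⟩ := q.left.surjective v
    exact ⟨⟨⟩, y, hy⟩

theorem cov_etale {W Z : Over S} (q : W ⟶ Z) [Etale q.left] [Surjective q.left] :
    K600.DescMor.Cov q (QuotSh.J Scheme.etalePrecoverage S) := by
  unfold K600.DescMor.Cov
  rw [K747.Cover.mem_JE_iff]
  intro z
  exact ⟨W, q, Sieve.le_generate _ _ _ (Presieve.singleton_self q), inferInstance, q.left.surjective z⟩

variable (G h𝒳) (A) in
/-- The morphism `z : (Sch/Z) ⟶ 𝒳` with `U ×_𝒳 Z = W`. -/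
theorem exists_pairRep {J : GrothendieckTopology (Over S)} [J.Subcanonical] (hst : Stk.IsStack J 𝒳) {Z : Over S}
    {q : WS w ⟶ Z} (hq : K600.DescMor.Cov q J) (hpb : IsPullback (tS A) (sS w) q q) :
    ∃ (z : FibCat.overCat Z ⥤ᵇ 𝒳) (P : PairRep x z (WS w)), P.s = cS G h𝒳 ∧ P.t = q := by
  obtain ⟨z, ⟨K⟩⟩ := K600.DescMor.exists_z (dd G h𝒳 hpb) hq hst
  obtain ⟨P, h1, h2⟩ := K600.DescMor.exists_pairRep hq hst (eff_dd hpb) K
  exact ⟨z, P, h1, h2⟩

end K600.DescAct
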