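import Groth.Agent.AlgSt.K736.QC
import Groth.Agent.AlgSt.K734.Cover
import Groth.Agent.AlgSt.K734.Atlas
import Groth.Agent.S10649
import Groth.Agent.AlgSt.K740.SpDM
import Groth.Agent.AlgSt.K742.LN
import Groth.Agent.AlgSt.K746.DiagFin
import Groth.Agent.AlgSt.K747.DMDiag

/-!
# Affine étale charts of quasi-compact Deligne-Mumford stacks
-/

set_option autoImplicit false
set_option linter.unusedVariables false
set_option linter.style.haveILetI false
set_option backward.isDefEq.respectTransparency false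
set_option backward.isDefEq.respectTransparency.types false

universe w v u

open CategoryTheory CategoryTheory.Limits AlgebraicGeometry Opposite K734.Rep

namespace K600.EtChart

variable {S : Scheme.{u}} {𝒳 : AlgSt.Cat S}

theorem etale_overMap {U V : Over S} (g : U ⟶ V) (hg : Etale g.left) :
    AlgSt.RepByAlgSpWith AlgSp.IsEtaleMor (AlgSt.overMap g) := by
  have hr : (AlgSp.LocP @Etale : MorphismProperty (AlgSp.Sp S)).RespectsIso := K735.Top.locP_respectsIso (S := S) @Etale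
  have h1 : AlgSt.RepByAlgSpWith (AlgSp.LocP @Etale) (AlgSt.overMap g) :=
    K746.DiagFin.repByAlgSpWith_overMap (P := @Etale) (fun A B f hf =>
      K597.locP_of_repWith (fun A B C e f he hf => MorphismProperty.comp_mem _ _ _ he hf) hf) g
      ((AlgSp.repWith_yon_map_iff @Etale g).2 hg)
  exact K740.SpIso.repByAlgSpWith_imp h1 fun F W q hq => K597.isEtaleMor_of_locP_etale K597.etLoc_etale (AlgSp.IsAlgSpace.yon_obj W) hq

theorem etale_comp_overMap (h𝒳 : FibCat.IsFibGrpd 𝒳.p) {V : Over S} {v : FibCat.overCat V ⥤ᵇ 𝒳}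
    (hv : AlgSt.RepByAlgSpWith AlgSp.IsEtaleMor v) {U : Over S} (g : U ⟶ V) (hg : Etale g.left) :
    AlgSt.RepByAlgSpWith AlgSp.IsEtaleMor (BasedFunctor.comp (AlgSt.overMap g) v) :=
  K734.Rep.repByAlgSpWith_comp (K735.Fp.isFibGrpd_overCat U) (K735.Fp.isFibGrpd_overCat V) nice_isEtaleMor.bc
    nice_isEtaleMor.comp nice_isEtaleMor.loc (etale_overMap g hg) hv

theorem smooth_of_etale {V : Over S} {v : FibCat.overCat V ⥤ᵇ 𝒳}
    (hv : AlgSt.RepByAlgSpWith AlgSp.IsEtaleMor v) : AlgSt.RepByAlgSpWith (AlgSp.LocP @Smooth) v :=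
  K740.SpIso.repByAlgSpWith_imp hv fun F U q hq => locP_smooth_of_isEtaleMor hq

theorem flat_of_etale {V : Over S} {v : FibCat.overCat V ⥤ᵇ 𝒳} (h : AlgSt.RepByAlgSpWith AlgSp.IsEtaleMor v) :
    AlgSt.RepByAlgSpWith (AlgSp.LocP @Flat) v :=
  K740.SpIso.repByAlgSpWith_imp (smooth_of_etale h) (fun F U q hq A B a b g ha hb' w => by
    have : Smooth g.left := hq a b g ha hb' w
    exact (inferInstance : Flat g.left))

theorem lfp_of_etale {V : Over S} {v : FibCat.overCat V ⥤ᵇ 𝒳} (h : AlgSt.RepByAlgSpWith AlgSp.IsEtaleMor v) :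
    AlgSt.RepByAlgSpWith (AlgSp.LocP @LocallyOfFinitePresentation) v :=
  K740.SpIso.repByAlgSpWith_imp (smooth_of_etale h) (fun F U q hq A B a b g ha hb' w => by
    have : Smooth g.left := hq a b g ha hb' w
    exact (inferInstance : LocallyOfFinitePresentation g.left))

theorem exists_chart {K : Precoverage Scheme.{u}} (h𝒳 : AlgSt.IsDM K 𝒳) (hqc : AlgSt.IsQuasiCompact 𝒳) :
    ∃ (U : Over S) (x : FibCat.overCat U ⥤ᵇ 𝒳), IsAffine U.left ∧ AlgSt.RepByAlgSpWith AlgSp.IsEtaleMor x ∧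
      AlgSt.RepByAlgSpWith AlgSp.IsSurjectiveMor x := by
  obtain ⟨V, v, h1, h2⟩ := h𝒳.2
  have hsm := smooth_of_etale h1
  have ho := K736.QC.isOpenMap_ofChart h𝒳.1 hsm
  have hs := K736.QC.surjective_ofChart h𝒳.1 h2
  haveI : CompactSpace (AlgSt.Points 𝒳) := (K736.QC.isQuasiCompact_iff h𝒳.1).1 hqc
  have key : ∀ w : V.left, ∃ O : V.left.Opens, IsAffineOpen O ∧ w ∈ O := fun w => by
    obtain ⟨O, hO, hw, -⟩ := (Scheme.isBasis_affineOpens V.left).exists_subset_of_mem_open (Set.mem_univ w) isOpen_univ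
    obtain ⟨O', h3, h4⟩ := hO
    subst h4
    exact ⟨O', h3, hw⟩
  choose O hO hw using key
  obtain ⟨t, ht⟩ := isCompact_univ.elim_finite_subcover (fun w : V.left => AlgSt.Points.ofChart v '' (O w : Set ↥V.left))
    (fun w => ho _ (O w).2) (fun q hq => by
      obtain ⟨w, rfl⟩ := hs q
      exact Set.mem_iUnion.2 ⟨w, w, hw w, rfl⟩)
  let g₀ : (∐ fun w : t => ((O w.1 : V.left.Opens) : Scheme.{u})) ⟶ V.left := Sigma.desc fun w : t => (O w.1).ι
  let U : Over S := Over.mk (g₀ ≫ V.hom)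
  let g : U ⟶ V := Over.homMk g₀ rfl
  have haff : ∀ w : t, IsAffine ((O w.1 : V.left.Opens) : Scheme.{u}) := fun w => hO w.1
  have hg : Etale g.left := IsZariskiLocalAtSource.sigmaDesc (P := @Etale) fun w => inferInstance
  have h3 := etale_comp_overMap h𝒳.1.isStack.1 h1 g hg
  refine ⟨U, BasedFunctor.comp (AlgSt.overMap g) v, ?_, h3, ?_⟩
  · exact inferInstanceAs (IsAffine (∐ fun w : t => ((O w.1 : V.left.Opens) : Scheme.{u})))
  · refine K736.QC.surj_of_surjective_ofChart h𝒳.1 (K735.Rep.repByAlgSp1_of_with h3) ?_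
    intro q
    obtain ⟨w, hwt, s, hs', rfl⟩ := Set.mem_iUnion₂.1 (ht (Set.mem_univ q))
    refine ⟨(Sigma.ι (fun w : t => ((O w.1 : V.left.Opens) : Scheme.{u})) ⟨w, hwt⟩) ⟨s, hs'⟩, ?_⟩
    rw [K735.PtsSp.ofChart_overMap]
    change AlgSt.Points.ofChart v (g₀ _) = _
    rw [← Scheme.Hom.comp_apply, Sigma.ι_desc]
    rfl

theorem isFiniteMor_of {F : AlgSp.Sp S} (hF : AlgSp.IsAlgSpace F) {U : Over S} {f : F ⟶ (AlgSp.yon S).obj U}
    (h : AlgSp.IsProperMor f) (h' : AlgSp.LocP (@LocallyOfFiniteType ⊓ @FormallyUnramified) f) : AlgSp.IsFiniteMor f := by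
  have h1 : AlgSp.LocP (@LocallyQuasiFinite ⊓ @LocallyOfFiniteType) f := fun _ _ a b h ha hb hw => by
    obtain ⟨h1, h2⟩ := h' a b h ha hb hw
    exact (show (@LocallyQuasiFinite ⊓ @LocallyOfFiniteType) h.left from
      ⟨Groth.Agent.Desc.LQF.of_unramified h.left, h1⟩)
  have h2 := Groth.Agent.S10649.result (X := ⟨F, hF⟩) (Y := ⟨_, AlgSp.IsAlgSpace.yon_obj U⟩)
    (ObjectProperty.homMk f)
  have h3 : (AlgSp.IsProperMor f ∧ AlgSp.LocP (@LocallyQuasiFinite ⊓ @LocallyOfFiniteType) f) ↔ AlgSp.IsFiniteMor f :=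
    h2.out 1 0
  exact h3.1 ⟨h, h1⟩

theorem finite_diag {𝒳 𝒴 : AlgSt.Cat S} {f : 𝒳 ⥤ᵇ 𝒴} (h : AlgSt.IsSeparatedMor f) (h' : AlgSt.IsDMMor f) :
    AlgSt.RepByAlgSpWith AlgSp.IsFiniteMor (FibCat.diag f) := by
  intro U y
  obtain ⟨F, e, he, hP⟩ := h U y
  have := K735.Top.locP_respectsIso (S := S) (@LocallyOfFiniteType ⊓ @FormallyUnramified)
  refine ⟨F, e, he, isFiniteMor_of F.property hP ?_⟩
  exact (K735.Rep.RepOver.of_rep (P := AlgSp.LocP (@LocallyOfFiniteType ⊓ @FormallyUnramified)) (h' U y) e he).2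

theorem nice_fin : Nice (AlgSp.IsFiniteMor (S := S)) where
  bc _ _ _ _ h1 h2 h3 h4 _ _ _ _ sq h := K746.DiagFin.bc_fin h1 h2 h3 h4 _ _ _ _ sq h
  comp _ _ _ h1 h2 h3 _ _ ha hb := K746.DiagFin.comp_fin h1 h2 h3 _ _ ha hb
  loc := K746.DiagFin.loc_fin

/-- The base category itself is locally Noetherian. -/
theorem ln_self [IsLocallyNoetherian S] :
    AlgSt.SmoothLocally (fun T ↦ IsLocallyNoetherian T) (FibCat.selfOver (Over S)) := by
  intro V y hy
  have h1 : AlgSt.RepByAlgSpWith (AlgSp.LocP @Smooth) (FibCat.toSelf (FibCat.overCat V)) :=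
    K735.Rep.repByAlgSpWith_of_iso _ (K739.Alg.selfIso _ _) hy
  have h2 : AlgSt.RepByAlgSpWith (AlgSp.LocP @Smooth) (AlgSt.overMap (Over.mkIdTerminal.from V)) :=
    (K735.Rep.repByAlgSpWith_iff_of_sq _ (FibCat.toSelf (FibCat.overCat V))
      (AlgSt.overMap (Over.mkIdTerminal.from V)) (BasedFunctor.id _)
      (FibCat.toSelf (FibCat.overCat (Over.mk (𝟙 S)))) K735.Fib.isEquivOver_id
      (K740.DiagRep.isEquivOver_toSelf_overCat Over.mkIdTerminal) (K739.Alg.selfIso _ _)).1 h1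
  have h3 : Smooth (Over.mkIdTerminal.from V).left := (K742.nice_smooth.overMap_iff _).1 h2
  haveI : IsLocallyNoetherian (Over.mk (𝟙 S)).left := ‹IsLocallyNoetherian S›
  exact LocallyOfFiniteType.isLocallyNoetherian (Over.mkIdTerminal.from V).left

end K600.EtChart
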