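import Groth.Agent.AlgSt.K600.FlatMem

/-!
# Factorisation lemmas for flat base changes of scheme theoretically dominant morphisms

* `K600.FacLem.sd_ext` : two morphisms to an affine scheme which agree after a scheme theoretically dominant morphism.
* `K600.FacLem.glue_fac` : factorisation through `X ×_U W` is local on `X`, `X → U` flat.
* `K600.FacLem.exists_fac` : `W = Spec (a⁻¹ (im j))`.
-/

set_option autoImplicit false
set_option backward.isDefEq.respectTransparency false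
set_option linter.style.haveILetI false

universe u

open CategoryTheory CategoryTheory.Limits AlgebraicGeometry TensorProduct

namespace K600.FacLem

open K600.FlatMem

variable {X X' U F W P Q Y : Scheme.{u}}

/-- `X ×_U P ⟶ X ×_U Q`. -/
noncomputable def bm (f : X ⟶ U) {p : P ⟶ U} {q : Q ⟶ U} (a : P ⟶ Q) (ha : a ≫ q = p) :
    pullback f p ⟶ pullback f q :=
  pullback.lift (pullback.fst f p) (pullback.snd f p ≫ a) (by rw [Category.assoc, ha, pullback.condition])

/-- `X' ×_U P ⟶ X ×_U P`. -/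
noncomputable def cm (k : X' ⟶ X) (f : X ⟶ U) (p : P ⟶ U) : pullback (k ≫ f) p ⟶ pullback f p :=
  pullback.lift (pullback.fst _ _ ≫ k) (pullback.snd _ _) (by rw [Category.assoc, pullback.condition])

@[reassoc (attr := simp)]
theorem bm_fst (f : X ⟶ U) {p : P ⟶ U} {q : Q ⟶ U} (a : P ⟶ Q) (ha : a ≫ q = p) :
    bm f a ha ≫ pullback.fst _ _ = pullback.fst _ _ := pullback.lift_fst _ _ _

@[reassoc (attr := simp)]
theorem bm_snd (f : X ⟶ U) {p : P ⟶ U} {q : Q ⟶ U} (a : P ⟶ Q) (ha : a ≫ q = p) :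
    bm f a ha ≫ pullback.snd _ _ = pullback.snd _ _ ≫ a := pullback.lift_snd _ _ _

@[reassoc (attr := simp)]
theorem cm_fst (k : X' ⟶ X) (f : X ⟶ U) (p : P ⟶ U) :
    cm k f p ≫ pullback.fst _ _ = pullback.fst _ _ ≫ k := pullback.lift_fst _ _ _

@[reassoc (attr := simp)]
theorem cm_snd (k : X' ⟶ X) (f : X ⟶ U) (p : P ⟶ U) :
    cm k f p ≫ pullback.snd _ _ = pullback.snd _ _ := pullback.lift_snd _ _ _

@[reassoc]
theorem bm_cm (k : X' ⟶ X) (f : X ⟶ U) {p : P ⟶ U} {q : Q ⟶ U} (a : P ⟶ Q) (ha : a ≫ q = p) :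
    bm (k ≫ f) a ha ≫ cm k f q = cm k f p ≫ bm f a ha := by
  apply pullback.hom_ext <;> simp

theorem bm_comp (f : X ⟶ U) {R : Scheme.{u}} {p : P ⟶ U} {q : Q ⟶ U} {r : R ⟶ U} (a : P ⟶ Q) (ha : a ≫ q = p)
    (b : Q ⟶ R) (hb : b ≫ r = q) (h : (a ≫ b) ≫ r = p) : bm f a ha ≫ bm f b hb = bm f (a ≫ b) h := by
  apply pullback.hom_ext <;> simp

theorem isPullback_bm (f : X ⟶ U) {p : P ⟶ U} {q : Q ⟶ U} (a : P ⟶ Q) (ha : a ≫ q = p) :
    IsPullback (pullback.snd f p) (bm f a ha) a (pullback.snd f q) := by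
  refine ⟨⟨(bm_snd f a ha).symm⟩, ⟨PullbackCone.IsLimit.mk _
    (fun s => pullback.lift (s.snd ≫ pullback.fst _ _) s.fst ?_) (fun s => ?_) (fun s => ?_)
    (fun s m h1 h2 => ?_)⟩⟩
  · rw [Category.assoc, pullback.condition, ← ha, ← Category.assoc, ← Category.assoc s.fst, s.condition]
  · exact pullback.lift_snd _ _ _
  · apply pullback.hom_ext
    · rw [Category.assoc, bm_fst, pullback.lift_fst]
    · rw [Category.assoc, bm_snd, pullback.lift_snd_assoc, s.condition]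
  · apply pullback.hom_ext
    · rw [pullback.lift_fst, ← h2, Category.assoc, bm_fst]
    · rw [pullback.lift_snd, h1]

/-- Two morphisms to an affine scheme which agree after a scheme theoretically dominant morphism are equal. -/
theorem sd_ext (i : F ⟶ W) [IsSchemeTheoreticallyDominant i] [QuasiCompact i] [IsAffine Y] {g g' : W ⟶ Y}
    (h : i ≫ g = i ≫ g') : g = g' := by
  apply ext_of_isAffine
  ext x
  apply Scheme.Hom.app_injective i ⊤
  have h1 := congr($(congrArg Scheme.Hom.appTop h) x)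
  rw [Scheme.Hom.comp_appTop, Scheme.Hom.comp_appTop] at h1
  exact h1

theorem sd_bm (f : X ⟶ U) [Flat f] {p : P ⟶ U} {q : Q ⟶ U} (a : P ⟶ Q) (ha : a ≫ q = p)
    [IsSchemeTheoreticallyDominant a] [QuasiCompact a] : IsSchemeTheoreticallyDominant (bm f a ha) ∧
      QuasiCompact (bm f a ha) :=
  ⟨IsSchemeTheoreticallyDominant.of_isPullback (isPullback_bm f a ha),
    MorphismProperty.of_isPullback (P := @QuasiCompact) (isPullback_bm f a ha) inferInstance⟩

/-- Factorisation through `X ×_U W` is local on `X`. -/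
theorem glue_fac {p : F ⟶ U} {w : W ⟶ U} (i : F ⟶ W) (hi : i ≫ w = p) [IsSchemeTheoreticallyDominant i]
    [QuasiCompact i] (f : X ⟶ U) [Flat f] (𝒰 : X.OpenCover) [IsAffine Y] (g : pullback f p ⟶ Y)
    (h : ∀ k, ∃ g₁ : pullback (𝒰.f k ≫ f) w ⟶ Y, bm (𝒰.f k ≫ f) i hi ≫ g₁ = cm (𝒰.f k) f p ≫ g) :
    ∃ g₁ : pullback f w ⟶ Y, bm f i hi ≫ g₁ = g := by
  choose γ hγ using h
  let 𝒱 : (pullback f w).OpenCover := Scheme.Pullback.openCoverOfLeft 𝒰 f w
  have h𝒱 : ∀ k, 𝒱.f k = cm (𝒰.f k) f w := fun k => by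
    apply pullback.hom_ext
    · simp [𝒱, Scheme.Pullback.openCoverOfLeft]
    · simp [𝒱, Scheme.Pullback.openCoverOfLeft]
  obtain ⟨s1, s2⟩ := sd_bm f i hi
  have key : ∀ {M : Scheme.{u}} (k l : 𝒰.I₀) (m : M ⟶ 𝒱.X k) (n : M ⟶ 𝒱.X l) (_ : m ≫ 𝒱.f k = n ≫ 𝒱.f l)
      [Flat (m ≫ 𝒱.f k)], m ≫ γ k = n ≫ γ l := by
    intro M k l m n e _
    have sq := IsPullback.of_hasPullback (bm f i hi) (m ≫ 𝒱.f k)
    have d1 : IsSchemeTheoreticallyDominant (pullback.snd (bm f i hi) (m ≫ 𝒱.f k)) := inferInstance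
    refine sd_ext (pullback.snd (bm f i hi) (m ≫ 𝒱.f k)) ?_
    have e1 : ∀ (k : 𝒰.I₀) (m : M ⟶ 𝒱.X k) (D : Scheme.{u}) (a : D ⟶ pullback f p) (b : D ⟶ M)
        (_ : a ≫ bm f i hi = b ≫ m ≫ 𝒱.f k), b ≫ m ≫ γ k = a ≫ g := by
      intro k m D a b hab
      rw [h𝒱] at hab
      let t : D ⟶ pullback (𝒰.f k ≫ f) p := pullback.lift ((b ≫ m) ≫ pullback.fst (𝒰.f k ≫ f) w)
        (a ≫ pullback.snd f p) (by
          have e2 := congrArg (· ≫ pullback.fst f w) hab
          simp only [Category.assoc, bm_fst, cm_fst] at e2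
          rw [Category.assoc, Category.assoc, Category.assoc, ← reassoc_of% e2, pullback.condition])
      have e3 : t ≫ bm (𝒰.f k ≫ f) i hi = b ≫ m := by
        apply pullback.hom_ext
        · rw [Category.assoc, bm_fst]
          exact pullback.lift_fst _ _ _
        · rw [Category.assoc, bm_snd]
          have e4 : t ≫ pullback.snd (𝒰.f k ≫ f) p = a ≫ pullback.snd f p := pullback.lift_snd _ _ _
          have e5 := congrArg (· ≫ pullback.snd f w) hab
          simp only [Category.assoc, bm_snd, cm_snd] at e5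
          rw [reassoc_of% e4, e5, Category.assoc]
      have e6 : t ≫ cm (𝒰.f k) f p = a := by
        apply pullback.hom_ext
        · rw [Category.assoc, cm_fst]
          have e4 : t ≫ pullback.fst (𝒰.f k ≫ f) p = (b ≫ m) ≫ pullback.fst (𝒰.f k ≫ f) w :=
            pullback.lift_fst _ _ _
          have e2 := congrArg (· ≫ pullback.fst f w) hab
          simp only [Category.assoc, bm_fst, cm_fst] at e2
          rw [reassoc_of% e4, ← e2]
        · rw [Category.assoc, cm_snd]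
          exact pullback.lift_snd _ _ _
      rw [← Category.assoc b, ← e3, Category.assoc, hγ, reassoc_of% e6]
    rw [e1 k m _ _ _ pullback.condition]
    refine (e1 l n _ _ _ ?_).symm
    rw [← e]
    exact pullback.condition
  refine ⟨𝒱.glueMorphisms γ (fun k l => ?_), ?_⟩
  · refine key k l _ _ pullback.condition
  · refine Scheme.Cover.hom_ext (Scheme.Pullback.openCoverOfLeft 𝒰 f p) _ _ (fun k => ?_)
    have e1 : (Scheme.Pullback.openCoverOfLeft 𝒰 f p).f k = cm (𝒰.f k) f p := by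
      apply pullback.hom_ext
      · simp [Scheme.Pullback.openCoverOfLeft]
      · simp [Scheme.Pullback.openCoverOfLeft]
    rw [e1, ← hγ, ← Category.assoc, ← bm_cm, Category.assoc, ← h𝒱 k]
    congr 1
    exact 𝒱.ι_glueMorphisms γ _ k

/-- Morphisms to affine schemes factor when global sections do. -/
theorem exists_fac_of_sections {i : F ⟶ W} [IsSchemeTheoreticallyDominant i] [QuasiCompact i] [IsAffine Y]
    (g : F ⟶ Y) (h : ∀ y : Γ(Y, ⊤), ∃ x : Γ(W, ⊤), i.appTop x = g.appTop y) : ∃ g₁ : W ⟶ Y, i ≫ g₁ = g := by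
  have hinj : Function.Injective i.appTop := Scheme.Hom.app_injective i ⊤
  choose ψ hψ using h
  let Ψ : Γ(Y, ⊤) ⟶ Γ(W, ⊤) := CommRingCat.ofHom
    { toFun := ψ
      map_one' := hinj (by rw [hψ, map_one, map_one])
      map_mul' := fun x y => hinj (by rw [map_mul, hψ, hψ, hψ, map_mul])
      map_zero' := hinj (by rw [hψ, map_zero, map_zero])
      map_add' := fun x y => hinj (by rw [map_add, hψ, hψ, hψ, map_add]) }
  have hΨ : Ψ ≫ i.appTop = g.appTop := by
    ext y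
    exact hψ y
  refine ⟨W.toSpecΓ ≫ Spec.map Ψ ≫ Y.isoSpec.inv, ?_⟩
  rw [Scheme.toSpecΓ_naturality_assoc, ← Spec.map_comp_assoc, hΨ, ← Scheme.toSpecΓ_naturality_assoc]
  simp [Scheme.isoSpec]

/-- `W = Spec (a⁻¹ (im j))`: a morphism `X ×_U Q ⟶ Y` factors through `X ×_U W` as soon as
`X ×_U P ⟶ X ×_U Q ⟶ Y` factors through `X ×_U P'`. -/
theorem exists_fac {P' : Scheme.{u}} [IsAffine X] [IsAffine U] [IsAffine Y] {q : Q ⟶ U} {p : P ⟶ U} {p' : P' ⟶ U}
    {w : W ⟶ U} [QuasiCompact q] [QuasiSeparated q] [QuasiCompact p] [QuasiSeparated p] [QuasiCompact p']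
    [QuasiSeparated p'] [QuasiCompact w] [QuasiSeparated w] (a : P ⟶ Q) (ha : a ≫ q = p) (j : P ⟶ P')
    (hj : j ≫ p' = p) (i : Q ⟶ W) (hi : i ≫ w = q) [IsSchemeTheoreticallyDominant i] [QuasiCompact i]
    (hB : ∀ (x : Γ(Q, ⊤)) (y : Γ(P', ⊤)), a.appTop x = j.appTop y → ∃ z : Γ(W, ⊤), i.appTop z = x)
    (f : X ⟶ U) [Flat f] (g : pullback f q ⟶ Y) (g' : pullback f p' ⟶ Y)
    (h : bm f a ha ≫ g = bm f j hj ≫ g') : ∃ g₁ : pullback f w ⟶ Y, bm f i hi ≫ g₁ = g := by
  obtain ⟨s1, s2⟩ := sd_bm f i hi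
  refine exists_fac_of_sections g (fun y => ?_)
  have po : ∀ {Z : Scheme.{u}} (z : Z ⟶ U) [QuasiCompact z] [QuasiSeparated z],
      IsPushout f.appTop z.appTop (pullback.fst f z).appTop (pullback.snd f z).appTop := fun z _ _ =>
    (isPushout_appTop (IsPullback.of_hasPullback f z).flip).flip
  have hf : f.appTop.hom.Flat := by
    have := Flat.flat_appLE f (isAffineOpen_top U) (isAffineOpen_top X) le_top
    simpa [Scheme.Hom.appLE] using this
  refine pushout_mem (A := Γ(U, ⊤)) (E := Γ(X, ⊤)) (f := f.appTop) (q := q.appTop) (p := p.appTop) (p' := p'.appTop)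
    (b := w.appTop) (a := a.appTop) (j := j.appTop) (k := i.appTop) ?_ ?_ ?_ hB hf (po q) (po p) (po p') (po w)
    (aE := (bm f a ha).appTop) (jE := (bm f j hj).appTop) ?_ ?_ ?_ ?_ ?_ ?_ (g.appTop y) (g'.appTop y) ?_
  · rw [← Scheme.Hom.comp_appTop, ha]
  · rw [← Scheme.Hom.comp_appTop, hj]
  · rw [← Scheme.Hom.comp_appTop, hi]
  · rw [← Scheme.Hom.comp_appTop, bm_fst]
  · rw [← Scheme.Hom.comp_appTop, bm_snd, Scheme.Hom.comp_appTop]
  · rw [← Scheme.Hom.comp_appTop, bm_fst]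
  · rw [← Scheme.Hom.comp_appTop, bm_snd, Scheme.Hom.comp_appTop]
  · rw [← Scheme.Hom.comp_appTop, bm_fst]
  · rw [← Scheme.Hom.comp_appTop, bm_snd, Scheme.Hom.comp_appTop]
  · have h1 := congr($(congrArg Scheme.Hom.appTop h) y)
    rw [Scheme.Hom.comp_appTop, Scheme.Hom.comp_appTop] at h1
    exact h1

end K600.FacLem
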