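import Mathlib

/-!
# Schemes covered by spectra of algebraically closed fields

* `K600.Geom.AC` : every point lies in an open subscheme isomorphic to `Spec K`, `K` algebraically closed.
* `K600.Geom.AC.of_etale`, `K600.Geom.AC.sigma`, `K600.Geom.exists_sec`.
* `K600.Geom.exists_idem` : the idempotent of a clopen subset of an affine scheme; `isClopen_basicOpen`.
-/

set_option autoImplicit false
set_option backward.isDefEq.respectTransparency false
set_option linter.style.haveILetI false

universe u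

open CategoryTheory CategoryTheory.Limits AlgebraicGeometry TopologicalSpace

namespace K600.Geom

theorem lqf_of_etale {X Y : Scheme.{u}} (f : X ⟶ Y) [Etale f] : LocallyQuasiFinite f := by
  rw [HasRingHomProperty.eq_affineLocally (P := @LocallyQuasiFinite), affineLocally_iff_affineOpens_le]
  intro V W h
  have h1 : (f.appLE V W h).hom.FormallyUnramified :=
    HasRingHomProperty.appLE @FormallyUnramified f inferInstance V W h
  have h2 : (f.appLE V W h).hom.FiniteType :=
    HasRingHomProperty.appLE @LocallyOfFiniteType f inferInstance V W h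
  algebraize [(f.appLE V W h).hom]
  exact (RingHom.quasiFinite_algebraMap ..).mpr inferInstance

/-- Covered by open subschemes which are spectra of algebraically closed fields. -/
def AC (P : Scheme.{u}) : Prop := ∀ x : P, ∃ (K : Type u) (_ : Field K) (_ : IsAlgClosed K)
  (ι : Spec (.of K) ⟶ P), IsOpenImmersion ι ∧ x ∈ Set.range ι

/-- Sections through a given point of an étale scheme over an algebraically closed field. -/
theorem exists_sec {K : Type u} [Field K] [IsAlgClosed K] {X : Scheme.{u}} (f : X ⟶ Spec (.of K)) [Etale f] (x : X) :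
    ∃ σ : Spec (.of K) ⟶ X, σ ≫ f = 𝟙 _ ∧ x ∈ Set.range σ ∧ IsOpenImmersion σ := by
  have h1 : LocallyQuasiFinite f := lqf_of_etale f
  haveI : IsArtinianRing K := inferInstance
  haveI : IsLocallyArtinian (Spec (.of K)) := inferInstance
  have h2 : IsLocallyArtinian X := IsLocallyArtinian.of_locallyQuasiFinite f
  have hx : IsClosed {x} := isClosed_discrete _
  have h3 : pointOfClosedPoint f x hx ≫ f = 𝟙 _ := pointOfClosedPoint_comp f x hx
  refine ⟨pointOfClosedPoint f x hx, h3,
    ⟨IsLocalRing.closedPoint K, pointOfClosedPoint_apply f x hx _⟩, ?_⟩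
  haveI : Etale (pointOfClosedPoint f x hx ≫ f) := by rw [h3]; infer_instance
  haveI : Etale (pointOfClosedPoint f x hx) := Etale.of_comp _ f
  haveI : IsSplitMono (pointOfClosedPoint f x hx) := ⟨⟨⟨f, h3⟩⟩⟩
  exact IsOpenImmersion.of_flat_of_mono _

theorem isOpen_singleton_of {P : Scheme.{u}} {K : Type u} [Field K] (ι : Spec (.of K) ⟶ P) [IsOpenImmersion ι] {x : P}
    (hx : x ∈ Set.range ι) : IsOpen {x} ∧ Set.range ι = {x} := by
  have h1 : Set.range ι = {x} := by
    obtain ⟨y, rfl⟩ := hx
    ext z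
    constructor
    · rintro ⟨w, rfl⟩
      rw [Subsingleton.elim w y]; rfl
    · rintro rfl; exact ⟨y, rfl⟩
  exact ⟨h1 ▸ ι.isOpenEmbedding.isOpen_range, h1⟩

theorem AC.discrete {P : Scheme.{u}} (h : AC P) : DiscreteTopology P := by
  rw [discreteTopology_iff_isOpen_singleton]
  intro x
  obtain ⟨K, _, _, ι, h1, h2⟩ := h x
  exact (isOpen_singleton_of ι h2).1

theorem AC.isReduced {P : Scheme.{u}} (h : AC P) : IsReduced P := by
  haveI : ∀ x : P, _root_.IsReduced (P.presheaf.stalk x) := fun x => by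
    obtain ⟨K, _, _, ι, h1, y, rfl⟩ := h x
    haveI : IsReduced (Spec (.of K)) := inferInstance
    haveI : IsIso (ι.stalkMap y) := inferInstance
    have h2 : Function.Injective (ι.stalkMap y).hom :=
      ((ConcreteCategory.isIso_iff_bijective (ι.stalkMap y)).1 inferInstance).1
    exact isReduced_of_injective (ι.stalkMap y).hom h2
  exact isReduced_of_isReduced_stalk P

theorem AC.of_etale {P F : Scheme.{u}} (h : AC P) (f : F ⟶ P) [Etale f] (j : F) :
    ∃ (K : Type u) (_ : Field K) (_ : IsAlgClosed K) (η : Spec (.of K) ⟶ F), IsOpenImmersion η ∧ j ∈ Set.range η ∧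
      Mono (η ≫ f) := by
  obtain ⟨K, _, _, ι, h1, y, hy⟩ := h (f j)
  obtain ⟨x, hx1, hx2⟩ := Scheme.Pullback.exists_preimage_pullback (f := f) (g := ι) j y hy.symm
  obtain ⟨σ, hσ, ⟨z, hz⟩, hσ'⟩ := exists_sec (pullback.snd f ι) x
  refine ⟨K, inferInstance, inferInstance, σ ≫ pullback.fst f ι, inferInstance, ⟨z, ?_⟩, ?_⟩
  · rw [Scheme.Hom.comp_apply, hz, hx1]
  · rw [Category.assoc, pullback.condition, reassoc_of% hσ]
    infer_instance

theorem AC.etale {P F : Scheme.{u}} (h : AC P) (f : F ⟶ P) [Etale f] : AC F := fun j => by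
  obtain ⟨K, i1, i2, η, h1, h2, -⟩ := h.of_etale f j
  exact ⟨K, i1, i2, η, h1, h2⟩

theorem AC.sigma {κ : Type u} [Small.{u} κ] (K : κ → Type u) [∀ k, Field (K k)] [∀ k, IsAlgClosed (K k)] :
    AC (∐ fun k => Spec (.of (K k))) := fun x => by
  obtain ⟨⟨k, y⟩, rfl⟩ := (sigmaMk (fun k => Spec (.of (K k)))).surjective x
  refine ⟨K k, inferInstance, inferInstance, Sigma.ι (fun k => Spec (.of (K k))) k, inferInstance, y, ?_⟩
  rw [sigmaMk_mk]

theorem eq_zero_or_one {B : Type*} [CommRing B] [IsLocalRing B] (e : B) (he : IsIdempotentElem e) :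
    e = 0 ∨ e = 1 := by
  have h : e * (1 - e) = 0 := by rw [mul_sub, mul_one, he.eq, sub_self]
  rcases IsLocalRing.isUnit_or_isUnit_one_sub_self e with h1 | h1
  · right
    exact (sub_eq_zero.mp ((h1.mul_right_eq_zero).mp h)).symm
  · left
    exact (h1.mul_left_eq_zero).mp h

theorem isClopen_basicOpen {X : Scheme.{u}} (e : Γ(X, ⊤)) (he : IsIdempotentElem e) :
    IsClopen (X.basicOpen e : Set X) := by
  refine ⟨?_, (X.basicOpen e).isOpen⟩
  have h : (X.basicOpen e : Set X)ᶜ = (X.basicOpen (1 - e) : Set X) := by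
    ext x
    simp only [Set.mem_compl_iff, SetLike.mem_coe]
    rw [Scheme.mem_basicOpen_top, Scheme.mem_basicOpen_top, map_sub, map_one]
    have he' := eq_zero_or_one _ (he.map (X.presheaf.germ ⊤ x trivial).hom)
    rcases he' with he' | he'
    · have h3 : X.presheaf.germ ⊤ x trivial e = 0 := he'
      rw [h3, sub_zero]
      simp
    · have h3 : X.presheaf.germ ⊤ x trivial e = 1 := he'
      rw [h3, sub_self]
      simp
  rw [← isOpen_compl_iff, h]
  exact (X.basicOpen (1 - e)).isOpen

theorem exists_idem {X : Scheme.{u}} [IsAffine X] {D : Set X} (hD : IsClopen D) :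
    ∃ e : Γ(X, ⊤), IsIdempotentElem e ∧ (X.basicOpen e : Set X) = D := by
  have h1 : IsClopen (X.isoSpec.inv ⁻¹' D) := hD.preimage X.isoSpec.inv.continuous
  obtain ⟨e, he, h2⟩ := PrimeSpectrum.isClopen_iff.1 h1
  refine ⟨e, he, ?_⟩
  have h3 := congrArg (X.isoSpec.hom ⁻¹' ·) h2
  simp only at h3
  rw [← Set.preimage_comp] at h3
  have h4 : (⇑X.isoSpec.inv ∘ ⇑X.isoSpec.hom) = id := by
    ext x
    exact congr($(X.isoSpec.hom_inv_id) x)
  rw [h4, Set.preimage_id] at h3
  rw [h3]
  have h5 := Scheme.toSpecΓ_preimage_basicOpen X e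
  rw [← h5]
  rfl

end K600.Geom
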