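import Groth.Agent.AlgSt.K600.Stable
import Groth.Agent.AlgSt.K600.Geom

/-!
# A finite cover of an étale groupoid on which it becomes Zariski-locally trivial

`K600.Pieces.exists_pieces`: `G.U` affine Noetherian, `G.s` étale separated quasi-compact: there is a finite surjective
`w : W ⟶ G.U` with an action of `G` and a finite open cover `O` of `W` such that `{(r, x) | x ∈ O i, r x ∈ O j} ⟶ W` is a
monomorphism.
-/

set_option autoImplicit false
set_option backward.isDefEq.respectTransparency false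
set_option linter.style.haveILetI false

universe u

open CategoryTheory CategoryTheory.Limits AlgebraicGeometry TopologicalSpace

namespace K600.Pieces

open K600.FlatMem K600.FacLem K600.Idem K600.Stable K600.Geom K746 Groth.Agent.Grpsch.Points

variable {S : Scheme.{u}} {G : Grpd.GroupoidScheme S} {P : Scheme.{u}}

theorem freeAct_cond {T : Scheme.{u}} (p : P ⟶ G.U) (f : T ⟶ pullback G.s (pullback.fst G.s p ≫ G.t)) :
    (f ≫ pullback.fst _ _) ≫ G.s = (f ≫ pullback.snd _ _ ≫ pullback.fst G.s p) ≫ G.t := by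
  rw [Category.assoc, Category.assoc, Category.assoc, pullback.condition]

/-- The left translation on `R ×_{s,U} P`. -/
noncomputable def freeMap (p : P ⟶ G.U) : pullback G.s (pullback.fst G.s p ≫ G.t) ⟶ pullback G.s p :=
  pullback.lift (mul G (𝟙 _ ≫ pullback.fst _ _) (𝟙 _ ≫ pullback.snd _ _ ≫ pullback.fst G.s p) (freeAct_cond p _))
    (pullback.snd _ _ ≫ pullback.snd G.s p) (by
      rw [mul_s, Category.assoc, Category.assoc, Category.assoc, pullback.condition, Category.id_comp])

theorem comp_freeMap_fst {T : Scheme.{u}} (p : P ⟶ G.U) (f : T ⟶ pullback G.s (pullback.fst G.s p ≫ G.t)) :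
    (f ≫ freeMap p) ≫ pullback.fst G.s p =
      mul G (f ≫ pullback.fst _ _) (f ≫ pullback.snd _ _ ≫ pullback.fst G.s p) (freeAct_cond p _) := by
  rw [Category.assoc, freeMap, pullback.lift_fst, comp_mul]
  apply mul_congr
  · rw [Category.id_comp]
  · rw [Category.id_comp]

@[reassoc]
theorem freeMap_snd (p : P ⟶ G.U) : freeMap p ≫ pullback.snd G.s p = pullback.snd _ _ ≫ pullback.snd G.s p :=
  pullback.lift_snd _ _ _

/-- The left translation action on `R ×_{s,U} P`. -/
noncomputable def freeAct (p : P ⟶ G.U) : Act G (pullback.fst G.s p ≫ G.t) where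
  act := freeMap p
  act_c r w h := by
    rw [← Category.assoc, comp_freeMap_fst, mul_t, pullback.lift_fst]
  one_act w h := by
    apply pullback.hom_ext
    · rw [comp_freeMap_fst]
      have h1 : (w ≫ pullback.fst G.s p ≫ G.t) ≫ G.e = w ≫ (pullback.fst G.s p ≫ G.t) ≫ G.e := by
        simp only [Category.assoc]
      refine (mul_congr G _ (α' := (w ≫ pullback.fst G.s p ≫ G.t) ≫ G.e) (β' := w ≫ pullback.fst G.s p) ?_ ?_).trans
        (e_mul G _ _ ?_)
      · rw [pullback.lift_fst, h1]
      · rw [pullback.lift_snd_assoc]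
      · rw [Category.assoc, G.e_s, Category.comp_id, Category.assoc]
    · rw [Category.assoc, freeMap_snd, pullback.lift_snd_assoc]
  mul_act r r' w h h' h₁ h₂ := by
    apply pullback.hom_ext
    · rw [comp_freeMap_fst, comp_freeMap_fst]
      have e1 : r' ≫ G.s = (w ≫ pullback.fst G.s p) ≫ G.t := by rw [h', Category.assoc]
      refine (mul_congr G _ (α' := mul G r r' h) (β' := w ≫ pullback.fst G.s p) ?_ ?_).trans
        ((mul_assoc G r r' (w ≫ pullback.fst G.s p) h e1).trans (mul_congr G _ ?_ ?_))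
      · rw [pullback.lift_fst]
      · rw [pullback.lift_snd_assoc]
      · rw [pullback.lift_fst]
      · rw [pullback.lift_snd_assoc, comp_freeMap_fst]
        apply mul_congr
        · rw [pullback.lift_fst]
        · rw [pullback.lift_snd_assoc]
    · rw [Category.assoc, freeMap_snd, pullback.lift_snd_assoc, Category.assoc, freeMap_snd, pullback.lift_snd_assoc,
        Category.assoc, freeMap_snd, pullback.lift_snd_assoc]

/-- A surjective open immersion is an isomorphism. -/
theorem isIso_of_surjective {X Y : Scheme.{u}} (f : X ⟶ Y) [IsOpenImmersion f] (h : Function.Surjective f) : IsIso f := by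
  haveI : Surjective f := ⟨h⟩
  haveI : Epi f.base := (TopCat.epi_iff_surjective _).2 h
  exact IsOpenImmersion.isIso f

theorem mono_piece [Etale G.s] [IsSeparated G.s] (p : P ⟶ G.U) {W : Scheme.{u}} {w : W ⟶ G.U} (A' : Act G w)
    (π : pullback G.s p ⟶ W) (hπ : π ≫ w = pullback.fst G.s p ≫ G.t) [IsDominant π]
    (hA : (freeAct p).act ≫ π = bm G.s π hπ ≫ A'.act) (Oi Oj : W.Opens) (i j : ↥(pullback G.s p))
    (hi : π ⁻¹' (Oi : Set W) = {i}) (hj : π ⁻¹' (Oj : Set W) = {j})
    {Ki : Type u} [Field Ki] [IsAlgClosed Ki] (ηi : Spec (.of Ki) ⟶ pullback G.s p) (hηi : i ∈ Set.range ηi)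
    {Kj : Type u} [Field Kj] (ηj : Spec (.of Kj) ⟶ pullback G.s p) [IsOpenImmersion ηj] (hηj : j ∈ Set.range ηj)
    [Mono (ηj ≫ pullback.snd G.s p)] :
    Mono (((pullback.snd G.s w ⁻¹ᵁ Oi) ⊓ (A'.act ⁻¹ᵁ Oj)).ι ≫ pullback.snd G.s w) := by
  set Q : (pullback G.s w).Opens := (pullback.snd G.s w ⁻¹ᵁ Oi) ⊓ (A'.act ⁻¹ᵁ Oj) with hQ
  set v : Q.toScheme ⟶ W := Q.ι ≫ pullback.snd G.s w with hv
  -- two points over the same point of `F`
  have key : ∀ (τ τ' : Spec (.of Ki) ⟶ pullback G.s w), τ ≫ pullback.snd G.s w = ηi ≫ π →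
      τ' ≫ pullback.snd G.s w = ηi ≫ π → (∀ y, A'.act (τ y) ∈ Oj) → (∀ y, A'.act (τ' y) ∈ Oj) → τ = τ' := by
    have step : ∀ (τ : Spec (.of Ki) ⟶ pullback G.s w) (_ : τ ≫ pullback.snd G.s w = ηi ≫ π)
        (_ : ∀ y, A'.act (τ y) ∈ Oj), ∃ (τF : Spec (.of Ki) ⟶ pullback G.s (pullback.fst G.s p ≫ G.t))
        (m : Spec (.of Ki) ⟶ Spec (.of Kj)), τF ≫ bm G.s π hπ = τ ∧ τF ≫ pullback.snd _ _ = ηi ∧
          τF ≫ freeMap p = m ≫ ηj := by
      intro τ h1 h2
      have e0 : (τ ≫ pullback.fst G.s w) ≫ G.s = ηi ≫ pullback.fst G.s p ≫ G.t := by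
        rw [Category.assoc, pullback.condition, reassoc_of% h1, hπ]
      let τF : Spec (.of Ki) ⟶ pullback G.s (pullback.fst G.s p ≫ G.t) := pullback.lift (τ ≫ pullback.fst G.s w) ηi e0
      have h3 : τF ≫ bm G.s π hπ = τ := by
        apply pullback.hom_ext
        · rw [Category.assoc, bm_fst]; exact pullback.lift_fst _ _ _
        · rw [Category.assoc, bm_snd, h1, ← Category.assoc]
          congr 1
          exact pullback.lift_snd _ _ _
      have h4 : (τF ≫ freeMap p) ≫ π = τ ≫ A'.act := by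
        have : freeMap p ≫ π = bm G.s π hπ ≫ A'.act := hA
        rw [Category.assoc, this, reassoc_of% h3]
      have h5 : Set.range (τF ≫ freeMap p) ⊆ Set.range ηj := by
        rintro _ ⟨y, rfl⟩
        have h6 : (τF ≫ freeMap p) y ∈ π ⁻¹' (Oj : Set W) := by
          have h7 := h2 y
          have h8 : π ((τF ≫ freeMap p) y) = A'.act (τ y) := by
            rw [← Scheme.Hom.comp_apply, h4, Scheme.Hom.comp_apply]
          change π ((τF ≫ freeMap p) y) ∈ Oj
          rw [h8]; exact h7
        rw [hj] at h6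
        rw [Set.mem_singleton_iff.1 h6]
        exact hηj
      refine ⟨τF, IsOpenImmersion.lift ηj (τF ≫ freeMap p) h5, h3, pullback.lift_snd _ _ _, ?_⟩
      rw [IsOpenImmersion.lift_fac]
    intro τ τ' h1 h1' h2 h2'
    obtain ⟨τF, m, e1, e2, e3⟩ := step τ h1 h2
    obtain ⟨τF', m', e1', e2', e3'⟩ := step τ' h1' h2'
    have h6 : m = m' := by
      rw [← cancel_mono (ηj ≫ pullback.snd G.s p), ← reassoc_of% e3, ← reassoc_of% e3', freeMap_snd,
        reassoc_of% e2, reassoc_of% e2']
    have h7 : τF ≫ freeMap p = τF' ≫ freeMap p := by rw [e3, e3', h6]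
    have h8 : τF = τF' := by
      apply pullback.hom_ext
      · have h9 : (τF ≫ freeMap p) ≫ pullback.fst G.s p = (τF' ≫ freeMap p) ≫ pullback.fst G.s p := by rw [h7]
        rw [comp_freeMap_fst, comp_freeMap_fst] at h9
        refine mul_right_cancel G _ _ (τF ≫ pullback.snd _ _ ≫ pullback.fst G.s p) (freeAct_cond p _) ?_
          (h9.trans (mul_congr G _ rfl ?_))
        · rw [reassoc_of% e2, ← reassoc_of% e2']
          exact freeAct_cond p _
        · rw [reassoc_of% e2, reassoc_of% e2']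
      · rw [e2, e2']
    rw [← e1, ← e1', h8]
  haveI : Etale v := by rw [hv]; infer_instance
  haveI : IsSeparated v := by rw [hv]; infer_instance
  rw [← pullback.isIso_diagonal_iff]
  refine isIso_of_surjective _ ?_
  by_contra hns
  let N : (pullback v v).Opens := ⟨(Set.range (pullback.diagonal v))ᶜ,
    (pullback.diagonal v).isClosedEmbedding.isClosed_range.isOpen_compl⟩
  have hN : ∃ x, x ∈ N := by
    by_contra h
    push Not at h
    refine hns fun x => ?_
    by_contra h'
    exact h x h'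
  let d : N.toScheme ⟶ W := N.ι ≫ pullback.fst v v ≫ v
  haveI : Etale d := inferInstance
  have hd : IsOpen (Set.range d) := d.isOpenMap.isOpen_range
  obtain ⟨x, hx⟩ := hN
  have hne : (Set.range d).Nonempty := ⟨d ⟨x, hx⟩, ⟨_, rfl⟩⟩
  obtain ⟨f, hf⟩ := (IsDominant.denseRange (f := π)).exists_mem_open hd hne
  have hdi : ∀ n : N.toScheme, d n ∈ Oi := fun n => by
    have h1 : ((pullback.fst v v) (N.ι n)).1 ∈ Q := ((pullback.fst v v) (N.ι n)).2
    exact h1.1
  have hfi : f = i := by
    obtain ⟨n, hn⟩ := hf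
    have h1 : f ∈ π ⁻¹' (Oi : Set W) := by
      change π f ∈ Oi
      rw [← hn]; exact hdi n
    rw [hi] at h1
    exact h1
  obtain ⟨n, hn⟩ := hf
  obtain ⟨y, hy⟩ := hηi
  obtain ⟨z, hz1, hz2⟩ := Scheme.Pullback.exists_preimage_pullback (f := d) (g := ηi ≫ π) n y (by
    rw [hn, hfi, Scheme.Hom.comp_apply, hy])
  obtain ⟨σ, hσ, -, -⟩ := exists_sec (pullback.snd d (ηi ≫ π)) z
  let n' : Spec (.of Ki) ⟶ N.toScheme := σ ≫ pullback.fst d (ηi ≫ π)
  have hn' : n' ≫ d = ηi ≫ π := by
    simp only [n', Category.assoc, pullback.condition, reassoc_of% hσ]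
  have hA1 : ∀ (g : Spec (.of Ki) ⟶ Q.toScheme) (y), A'.act ((g ≫ Q.ι) y) ∈ Oj := fun g y => (g y).2.2
  have h9 : (n' ≫ N.ι ≫ pullback.fst v v) ≫ Q.ι = (n' ≫ N.ι ≫ pullback.snd v v) ≫ Q.ι := by
    refine key _ _ ?_ ?_ (hA1 _) (hA1 _)
    · rw [← hn']; simp only [d, hv, Category.assoc]
    · rw [← hn']
      have h10 : pullback.snd v v ≫ v = pullback.fst v v ≫ v := pullback.condition.symm
      simp only [d, Category.assoc]
      rw [← h10]
  rw [cancel_mono] at h9
  have h11 : n' ≫ N.ι = (n' ≫ N.ι ≫ pullback.fst v v) ≫ pullback.diagonal v := by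
    apply pullback.hom_ext
    · simp
    · simp only [Category.assoc] at h9 ⊢
      rw [← h9]; simp
  have h12 : N.ι (n' y) ∈ Set.range (pullback.diagonal v) := by
    rw [← Scheme.Hom.comp_apply, h11, Scheme.Hom.comp_apply]
    exact ⟨_, rfl⟩
  exact (n' y).2 h12

/-- A point over the generic points. -/
theorem exists_geom (U : Scheme.{u}) [IsNoetherian U] : ∃ (P : Scheme.{u}) (_ : AC P) (_ : CompactSpace P) (p : P ⟶ U),
    ∀ Z : Set U, IsClosed Z → Set.range p ⊆ Z → Z = Set.univ := by
  let κ := irreducibleComponents U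
  haveI : Finite κ := NoetherianSpace.finite_irreducibleComponents.to_subtype
  have hirr : ∀ k : κ, IsIrreducible k.1 := fun k => k.2.1
  let x : κ → U := fun k => (hirr k).genericPoint
  have hx : ∀ k : κ, closure {x k} = k.1 := fun k => by
    have h1 := (hirr k).isGenericPoint_genericPoint_closure
    rw [IsGenericPoint, (isClosed_of_mem_irreducibleComponents _ k.2).closure_eq] at h1
    exact h1
  let K : κ → Type u := fun k => AlgebraicClosure (U.residueField (x k))
  let a : ∀ k : κ, Spec (.of (K k)) ⟶ U := fun k =>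
    Spec.map (CommRingCat.ofHom (algebraMap (U.residueField (x k)) (K k))) ≫ U.fromSpecResidueField (x k)
  refine ⟨∐ fun k => Spec (.of (K k)), AC.sigma K, inferInstance, Sigma.desc a, fun Z hZ h => ?_⟩
  have hxZ : ∀ k, x k ∈ Z := fun k => h ⟨Sigma.ι (fun k => Spec (.of (K k))) k (IsLocalRing.closedPoint (K k)), by
    rw [← Scheme.Hom.comp_apply, Sigma.ι_desc, Scheme.Hom.comp_apply]
    have h1 := U.range_fromSpecResidueField (x k)
    have h2 : U.fromSpecResidueField (x k) (Spec.map (CommRingCat.ofHom (algebraMap (U.residueField (x k)) (K k)))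
      (IsLocalRing.closedPoint (K k))) ∈ Set.range (U.fromSpecResidueField (x k)) := ⟨_, rfl⟩
    rw [h1] at h2
    exact h2⟩
  refine Set.eq_univ_of_univ_subset ?_
  rw [← sUnion_irreducibleComponents]
  rintro y ⟨k, hk, hy⟩
  have h3 : closure {x ⟨k, hk⟩} ⊆ Z := hZ.closure_subset_iff.2 (Set.singleton_subset_iff.2 (hxZ _))
  rw [hx] at h3
  exact h3 hy

theorem exists_pieces (G : Grpd.GroupoidScheme S) [IsAffine G.U] [IsLocallyNoetherian G.U] [Etale G.s]
    [QuasiCompact G.s] [IsSeparated G.s] [QuasiCompact G.t] [QuasiSeparated G.t] :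
    ∃ (W : Scheme.{u}) (_ : IsAffine W) (w : W ⟶ G.U) (_ : IsFinite w) (_ : Surjective w) (A : Act G w) (J : Type u)
      (_ : Finite J) (O : J → W.Opens), (∀ x : W, ∃ j, x ∈ O j) ∧
        ∀ i j, Mono (((pullback.snd G.s w ⁻¹ᵁ O i) ⊓ (A.act ⁻¹ᵁ O j)).ι ≫ pullback.snd G.s w) := by
  haveI : IsNoetherian G.U := {}
  obtain ⟨P, hP, _, p, hp⟩ := exists_geom G.U
  haveI : Etale (pullback.snd G.s p) := inferInstance
  have hF : AC (pullback G.s p) := hP.etale (pullback.snd G.s p)
  haveI : CompactSpace ↥(pullback G.s p) := by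
    have : QuasiCompact (pullback.snd G.s p) := inferInstance
    exact QuasiCompact.compactSpace_of_compactSpace (pullback.snd G.s p)
  haveI := hF.discrete
  haveI : Finite ↥(pullback G.s p) := finite_of_compact_of_discrete
  haveI : IsAffine (pullback G.s p) := inferInstance
  choose e he he' using fun j : ↥(pullback G.s p) => exists_idem (X := pullback G.s p) (D := {j}) (isClopen_discrete _)
  obtain ⟨W, _, π, w, _, hπ, _, A', h1, h2⟩ := exists_finite_act (freeAct p) e he
  choose z hz using h2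
  haveI : IsAffineHom π := inferInstance
  haveI : QuasiCompact π := inferInstance
  haveI : IsDominant π := inferInstance
  have hinj : Function.Injective π.appTop := Scheme.Hom.app_injective π ⊤
  have hzi : ∀ j, IsIdempotentElem (z j) := fun j => by
    apply hinj
    rw [map_mul, hz]; exact he j
  have hO : ∀ j, π ⁻¹' ((W.basicOpen (z j) : W.Opens) : Set W) = {j} := fun j => by
    have h3 := Scheme.preimage_basicOpen_top π (z j)
    rw [hz] at h3
    rw [← he' j, ← h3]; rfl
  refine ⟨W, inferInstance, w, inferInstance, ?_, A', ↥(pullback G.s p), inferInstance, fun j => W.basicOpen (z j), ?_,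
    fun i j => ?_⟩
  · constructor
    have h3 : IsClosed (Set.range w) := w.isClosedMap.isClosed_range
    have h4 := hp _ h3 (by
      rintro _ ⟨y, rfl⟩
      let f : P ⟶ pullback G.s p := pullback.lift (p ≫ G.e) (𝟙 P) (by
        rw [Category.assoc, G.e_s, Category.comp_id, Category.id_comp])
      refine ⟨π (f y), ?_⟩
      rw [← Scheme.Hom.comp_apply, ← Scheme.Hom.comp_apply, hπ]
      have h5 : f ≫ pullback.fst G.s p ≫ G.t = p := by
        rw [← Category.assoc, pullback.lift_fst, Category.assoc, G.e_t, Category.comp_id]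
      rw [h5])
    exact Set.range_eq_univ.1 h4
  · have h3 : IsClosed (⋃ j, ((W.basicOpen (z j) : W.Opens) : Set W)) :=
      isClosed_iUnion_of_finite fun j => (isClopen_basicOpen (z j) (hzi j)).1
    have h4 : Set.range π ⊆ ⋃ j, ((W.basicOpen (z j) : W.Opens) : Set W) := by
      rintro _ ⟨j, rfl⟩
      refine Set.mem_iUnion.2 ⟨j, ?_⟩
      have h5 : j ∈ π ⁻¹' ((W.basicOpen (z j) : W.Opens) : Set W) := by rw [hO]; rfl
      exact h5
    have h5 : closure (Set.range π) ⊆ ⋃ j, ((W.basicOpen (z j) : W.Opens) : Set W) := h3.closure_subset_iff.2 h4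
    rw [(IsDominant.denseRange (f := π)).closure_range] at h5
    intro x
    exact Set.mem_iUnion.1 (h5 (Set.mem_univ x))
  · obtain ⟨Ki, _, _, ηi, i1, i2, i3⟩ := hP.of_etale (pullback.snd G.s p) i
    obtain ⟨Kj, _, _, ηj, j1, j2, j3⟩ := hP.of_etale (pullback.snd G.s p) j
    exact mono_piece p A' π hπ h1 _ _ i j (hO i) (hO j) ηi i2 ηj j2

end K600.Pieces
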