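import Groth.Agent.AlgSt.K600.EtChart
import Groth.Agent.AlgSt.K600.DescAct
import Groth.Agent.AlgSt.K600.Pieces

/-!
# Finite covers of separated Deligne-Mumford stacks by schemes (S16819)
-/

set_option autoImplicit false
set_option linter.unusedVariables false
set_option linter.style.haveILetI false
set_option backward.isDefEq.respectTransparency false
set_option backward.isDefEq.respectTransparency.types false

universe w v u

open CategoryTheory CategoryTheory.Limits AlgebraicGeometry Opposite K734.Rep K746 K600.EtChart K734.Fib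

namespace K600.FinCov

variable {S : Scheme.{u}} {𝒳 : AlgSt.Cat S}

/-- The groupoid of a chart of a category with finite diagonal. -/
theorem exists_gpd (h𝒳 : FibCat.IsFibGrpd 𝒳.p)
    (hΔ : AlgSt.RepByAlgSpWith AlgSp.IsFiniteMor (FibCat.diag (FibCat.toSelf 𝒳))) {U : Over S}
    (x : FibCat.overCat U ⥤ᵇ 𝒳) :
    ∃ (R : Over S) (G : PairRep x x R), ∃ (f : R.left ⟶ pullback U.hom U.hom), IsFinite f ∧
      f ≫ pullback.fst _ _ = G.t.left ∧ f ≫ pullback.snd _ _ = G.s.left := by
  have hre : (AlgSp.IsFiniteMor (S := S)).RespectsIso := by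
    have e : AlgSp.IsFiniteMor (S := S) = AlgSp.RepWith @IsFinite :=
      funext fun _ => funext fun _ => funext fun f => propext K634.FiniteMor.isFiniteMor_iff
    rw [e]
    infer_instance
  let W₀ : Over S := Over.mk (pullback.fst U.hom U.hom ≫ U.hom)
  let a : W₀ ⟶ U := Over.homMk (pullback.snd U.hom U.hom) pullback.condition.symm
  let b : W₀ ⟶ U := Over.homMk (pullback.fst U.hom U.hom) rfl
  obtain ⟨R, G, π, h1, h2, h3⟩ := K734.Pair.exists_pairRep_of_diag h𝒳 (x := x) (y := x) (a := a) (b := b)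
    (fun f _ hf => ⟨K746.DiagFin.lqf_of_isFiniteMor _ hf, by
      rw [K634.FiniteMor.isFiniteMor_iff] at hf
      refine (K595.DiagBasic.isSeparatedMor_iff_repWith hf.1).2 ?_
      exact K595.RepDesc.repWith_mono (fun _ _ g (hg : IsFinite g) => (inferInstance : IsSeparated g)) hf⟩)
    hΔ (fun {T} u v => ⟨Over.homMk (pullback.lift v.left u.left (by
      rw [Over.w, Over.w])) (by
        change pullback.lift _ _ _ ≫ pullback.fst _ _ ≫ U.hom = T.hom
        rw [pullback.lift_fst_assoc, Over.w]), by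
        ext; exact pullback.lift_snd _ _ _, by ext; exact pullback.lift_fst _ _ _⟩)
    (fun w w' ha hb => by
      ext
      refine pullback.hom_ext ?_ ?_
      · exact congrArg CommaMorphism.left hb
      · exact congrArg CommaMorphism.left ha)
  rw [K634.FiniteMor.isFiniteMor_iff, AlgSp.repWith_yon_map_iff] at h3
  exact ⟨R, G, π.left, h3, congrArg CommaMorphism.left h2, congrArg CommaMorphism.left h1⟩

theorem sep_of_affine {X Y : Scheme.{u}} (f : X ⟶ Y) [IsAffine X] : IsSeparated f := by
  have : IsSeparated (f ≫ terminal.from Y) := by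
    have h1 : f ≫ terminal.from Y = terminal.from X := Subsingleton.elim _ _
    rw [h1]
    infer_instance
  exact IsSeparated.of_comp f (terminal.from Y)

theorem main [IsNoetherian S] (h𝒳 : AlgSt.IsDM Scheme.etalePrecoverage 𝒳) (hsep : AlgSt.IsSeparatedOver 𝒳)
    (hft : AlgSt.LocQ (AlgSp.LocP @LocallyOfFiniteType) (FibCat.toSelf 𝒳)) (hqc : AlgSt.IsQuasiCompact 𝒳) :
    ∃ (Z : Over S) (z : FibCat.overCat Z ⥤ᵇ 𝒳),
      AlgSt.RepByAlgSpWith AlgSp.IsFiniteMor z ∧ AlgSt.RepByAlgSpWith AlgSp.IsSurjectiveMor z := by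
  have hst := h𝒳.1.isStack
  have hfib : FibCat.IsFibGrpd 𝒳.p := hst.1
  obtain ⟨U, x, haff, hx, hxs⟩ := exists_chart h𝒳 hqc
  have hLN : IsLocallyNoetherian U.left :=
    K742.LN.smoothLocally_LN_of_lft hfib (FibCat.toSelf 𝒳) hft ln_self U x (smooth_of_etale hx)
  have hΔ := finite_diag hsep (K747.DM.isDMOver_of_isDM h𝒳)
  obtain ⟨R, G, f, hf, hft, hfs⟩ := exists_gpd hfib hΔ x
  have hEt : AlgSt.RepByAlgSpWith (AlgSp.LocP @Etale) x :=
    K740.SpIso.repByAlgSpWith_imp hx fun F U q hq => K597.locP_etale_of_isEtaleMor hq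
  have hs : Etale G.s.left := by
    have e1 := IsRep.prop nice_locP_etale.bc nice_locP_etale.loc hEt (AlgSp.IsAlgSpace.yon_obj U)
      (isRep_of_pair G hfib)
    exact AlgSp.locP_yon_map e1
  haveI : IsNoetherian U.left := {}
  haveI : QuasiCompact U.hom := inferInstance
  haveI : IsSeparated U.hom := sep_of_affine _
  let gp := (ChartRep.toOGpd G hfib).toGpd
  haveI i1 : IsAffine gp.U := haff
  haveI i2 : IsLocallyNoetherian gp.U := hLN
  haveI i3 : Etale gp.s := hs
  haveI i4 : QuasiCompact gp.s := by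
    change QuasiCompact G.s.left
    rw [← hfs]; infer_instance
  haveI i5 : IsSeparated gp.s := by
    change IsSeparated G.s.left
    rw [← hfs]; infer_instance
  haveI i6 : QuasiCompact gp.t := by
    change QuasiCompact G.t.left
    rw [← hft]; infer_instance
  haveI i7 : QuasiSeparated gp.t := by
    change QuasiSeparated G.t.left
    rw [← hft]; infer_instance
  obtain ⟨W, hW, w, hw, hws, A, J, hJ, O, hO, hm⟩ := K600.Pieces.exists_pieces gp
  obtain ⟨Z, q, hq, hqs, hpb⟩ := K600.QuotSch.exists_quot A O hO hm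
  haveI : Etale q.left := hq
  haveI : Surjective q.left := hqs
  obtain ⟨z, P, hP, -⟩ := K600.DescAct.exists_pairRep G hfib A hst (K600.DescAct.cov_etale q) hpb
  have hrep : AlgSt.RepByAlgSp1 z := (K740.DiagRep.repByAlgSp1_diag_iff hfib).1 h𝒳.1.diag Z z
  have hI := isRep_of_pair P hfib
  rw [hP] at hI
  have hsm := smooth_of_etale hx
  have hfin : AlgSp.IsFiniteMor ((AlgSp.yon S).map (K600.DescAct.cS G hfib (w := w))) := by
    rw [K634.FiniteMor.isFiniteMor_iff, AlgSp.repWith_yon_map_iff]
    exact hw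
  have hsur : AlgSp.IsSurjectiveMor ((AlgSp.yon S).map (K600.DescAct.cS G hfib (w := w))) :=
    K609.Points.surjective_map_of_repWith_surjective ((AlgSp.repWith_yon_map_iff @Surjective _).2 hws)
  refine ⟨Z, z, ?_, ?_⟩
  · exact nice_fin.of_cover hrep (AlgSp.IsAlgSpace.yon_obj U) (BasedFunctor.comp (AlgSt.toOverCat U) x)
      ((repByAlgSpWith_precomp_iff (K735.Rep.isEquivOver_toOverCat U) x).2 (flat_of_etale hx))
      ((repByAlgSpWith_precomp_iff (K735.Rep.isEquivOver_toOverCat U) x).2 (lfp_of_etale hx))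
      ((repByAlgSpWith_precomp_iff (K735.Rep.isEquivOver_toOverCat U) x).2 hxs) hI hfin
  · exact nice_surj.of_cover hrep (AlgSp.IsAlgSpace.yon_obj U) (BasedFunctor.comp (AlgSt.toOverCat U) x)
      ((repByAlgSpWith_precomp_iff (K735.Rep.isEquivOver_toOverCat U) x).2 (flat_of_etale hx))
      ((repByAlgSpWith_precomp_iff (K735.Rep.isEquivOver_toOverCat U) x).2 (lfp_of_etale hx))
      ((repByAlgSpWith_precomp_iff (K735.Rep.isEquivOver_toOverCat U) x).2 hxs) hI hsur

end K600.FinCov
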