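import Mathlib

/-!
# Flat base change of a preimage subring

`K600.FlatMem.pushout_mem`: `B = a⁻¹(im j)`, `A → E` flat: an element of `E ⊗ Q` which maps to `im (E ⊗ P' → E ⊗ P)`
lies in the image of `E ⊗ B`.  `isPushout_appTop`: sections of a flat base change.
-/

set_option autoImplicit false
set_option backward.isDefEq.respectTransparency false
set_option linter.style.haveILetI false

universe u

open CategoryTheory CategoryTheory.Limits AlgebraicGeometry TensorProduct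

namespace K600.FlatMem

/-- The flat base change of the preimage of a range. -/
theorem lTensor_mem {A E Q P P' B : Type*} [CommRing A] [AddCommGroup E] [AddCommGroup Q] [AddCommGroup P]
    [AddCommGroup P'] [AddCommGroup B] [Module A E] [Module A Q] [Module A P] [Module A P'] [Module A B]
    [Module.Flat A E] (a : Q →ₗ[A] P) (j : P' →ₗ[A] P) (k : B →ₗ[A] Q)
    (hB : ∀ x, a x ∈ LinearMap.range j → x ∈ LinearMap.range k) (z : E ⊗[A] Q) (y : E ⊗[A] P')
    (h : a.lTensor E z = j.lTensor E y) : z ∈ LinearMap.range (k.lTensor E) := by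
  let δ : Q →ₗ[A] P ⧸ LinearMap.range j := (LinearMap.range j).mkQ ∘ₗ a
  have hex : Function.Exact (LinearMap.ker δ).subtype δ := LinearMap.exact_subtype_ker_map δ
  have h1 := Module.Flat.lTensor_exact (M := E) hex
  have h2 : δ.lTensor E z = 0 := by
    have h3 : δ.lTensor E z = ((LinearMap.range j).mkQ).lTensor E (a.lTensor E z) := by
      rw [← LinearMap.comp_apply, ← LinearMap.lTensor_comp]
    rw [h3, h, ← LinearMap.comp_apply, ← LinearMap.lTensor_comp]
    have h4 : (LinearMap.range j).mkQ ∘ₗ j = 0 := LinearMap.range_mkQ_comp j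
    rw [h4]; simp
  obtain ⟨w, rfl⟩ := (h1 z).1 h2
  have hr : LinearMap.range (LinearMap.ker δ).subtype ≤ LinearMap.range k := by
    rintro _ ⟨x, rfl⟩
    refine hB _ ?_
    have h5 : (LinearMap.range j).mkQ (a x.1) = 0 := x.2
    rwa [Submodule.mkQ_apply, Submodule.Quotient.mk_eq_zero] at h5
  let k' : LinearMap.ker δ →ₗ[A] LinearMap.range k :=
    Submodule.inclusion (by rwa [Submodule.range_subtype] at hr)
  -- lift through the surjection onto the range
  have hs : Function.Surjective (k.rangeRestrict.lTensor E) :=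
    LinearMap.lTensor_surjective E (LinearMap.surjective_rangeRestrict k)
  obtain ⟨v, hv⟩ := hs (k'.lTensor E w)
  refine ⟨v, ?_⟩
  have e1 : k = (LinearMap.range k).subtype ∘ₗ k.rangeRestrict := rfl
  have e2 : (LinearMap.ker δ).subtype = (LinearMap.range k).subtype ∘ₗ k' := rfl
  rw [e2, LinearMap.lTensor_comp, LinearMap.comp_apply, ← hv, ← LinearMap.comp_apply, ← LinearMap.lTensor_comp]
  rfl

/-- A pushout of commutative rings as a tensor product. -/
theorem exists_equiv {A E Q EQ : CommRingCat.{u}} {f : A ⟶ E} {q : A ⟶ Q} {iE : E ⟶ EQ} {iQ : Q ⟶ EQ}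
    (h : IsPushout f q iE iQ) : letI := f.hom.toAlgebra; letI := q.hom.toAlgebra;
    ∃ e : E ⊗[A] Q ≃+* EQ, ∀ x y, e (x ⊗ₜ[A] y) = iE x * iQ y := by
  letI := f.hom.toAlgebra
  letI := q.hom.toAlgebra
  have h1 := CommRingCat.isPushout_tensorProduct A E Q
  have hf : CommRingCat.ofHom (algebraMap A E) = f := rfl
  have hq : CommRingCat.ofHom (algebraMap A Q) = q := rfl
  rw [hf, hq] at h1
  let e := h1.isoIsPushout _ _ h
  refine ⟨e.commRingCatIsoToRingEquiv, fun x y => ?_⟩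
  have e1 := congr($(h1.inl_isoIsPushout_hom _ _ h) x)
  have e2 := congr($(h1.inr_isoIsPushout_hom _ _ h) y)
  have h3 : x ⊗ₜ[A] y = (x ⊗ₜ[A] (1 : Q)) * ((1 : E) ⊗ₜ[A] y) := by
    rw [Algebra.TensorProduct.tmul_mul_tmul, mul_one, one_mul]
  rw [h3, map_mul]
  exact congr($e1 * $e2)

theorem pushout_mem {A E Q P P' B EQ EP EP' EB : CommRingCat.{u}} {f : A ⟶ E} {q : A ⟶ Q} {p : A ⟶ P}
    {p' : A ⟶ P'} {b : A ⟶ B} {a : Q ⟶ P} {j : P' ⟶ P} {k : B ⟶ Q} (ha : q ≫ a = p) (hj : p' ≫ j = p)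
    (hk : b ≫ k = q) (hB : ∀ x y, a x = j y → ∃ z, k z = x) (hf : f.hom.Flat)
    {iE : E ⟶ EQ} {iQ : Q ⟶ EQ} {iE' : E ⟶ EP} {iP : P ⟶ EP} {iE'' : E ⟶ EP'} {iP' : P' ⟶ EP'}
    {iE''' : E ⟶ EB} {iB : B ⟶ EB}
    (hQ : IsPushout f q iE iQ) (hP : IsPushout f p iE' iP) (hP' : IsPushout f p' iE'' iP')
    (hBB : IsPushout f b iE''' iB) {aE : EQ ⟶ EP} {jE : EP' ⟶ EP} {kE : EB ⟶ EQ}
    (a1 : iE ≫ aE = iE') (a2 : iQ ≫ aE = a ≫ iP) (j1 : iE'' ≫ jE = iE') (j2 : iP' ≫ jE = j ≫ iP)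
    (k1 : iE''' ≫ kE = iE) (k2 : iB ≫ kE = k ≫ iQ) (z : EQ) (y : EP') (h : aE z = jE y) : ∃ x, kE x = z := by
  letI := f.hom.toAlgebra
  letI := q.hom.toAlgebra
  letI := p.hom.toAlgebra
  letI := p'.hom.toAlgebra
  letI := b.hom.toAlgebra
  haveI : Module.Flat A E := hf
  obtain ⟨eQ, hQ'⟩ := exists_equiv hQ
  obtain ⟨eP, hP1⟩ := exists_equiv hP
  obtain ⟨eP', hP2⟩ := exists_equiv hP'
  obtain ⟨eB, hB2⟩ := exists_equiv hBB
  let aL : Q →ₐ[A] P := { a.hom with commutes' := fun r => congr($ha r) }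
  let jL : P' →ₐ[A] P := { j.hom with commutes' := fun r => congr($hj r) }
  let kL : B →ₐ[A] Q := { k.hom with commutes' := fun r => congr($hk r) }
  have tw : ∀ {X Y EX EY : CommRingCat.{u}} (x : A ⟶ X) (y : A ⟶ Y) (m : X ⟶ Y) (hm : x ≫ m = y)
      (iEX : E ⟶ EX) (iX : X ⟶ EX) (iEY : E ⟶ EY) (iY : Y ⟶ EY) (mE : EX ⟶ EY) (_ : iEX ≫ mE = iEY)
      (_ : iX ≫ mE = m ≫ iY), letI := x.hom.toAlgebra; letI := y.hom.toAlgebra;
      ∀ (eX : E ⊗[A] X ≃+* EX) (_ : ∀ x y, eX (x ⊗ₜ[A] y) = iEX x * iX y)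
        (eY : E ⊗[A] Y ≃+* EY) (_ : ∀ x y, eY (x ⊗ₜ[A] y) = iEY x * iY y) (mL : X →ₗ[A] Y)
        (_ : ∀ x, mL x = m x) (t : E ⊗[A] X), mE (eX t) = eY (mL.lTensor E t) := by
    intro X Y EX EY x y m hm iEX iX iEY iY mE h1 h2 
    letI := x.hom.toAlgebra
    letI := y.hom.toAlgebra
    intro eX h3 eY h4 mL h5 t
    induction t with
    | zero => simp
    | add s t hs ht => rw [map_add, map_add, map_add, map_add, hs, ht]
    | tmul s t =>
      rw [h3, map_mul, LinearMap.lTensor_tmul, h4, h5]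
      have e1 := congr($h1 s)
      have e2 := congr($h2 t)
      exact congr($e1 * $e2)
  have tQ := tw q p a ha iE iQ iE' iP aE a1 a2 eQ hQ' eP hP1 aL.toLinearMap (fun _ => rfl)
  have tP := tw p' p j hj iE'' iP' iE' iP jE j1 j2 eP' hP2 eP hP1 jL.toLinearMap (fun _ => rfl)
  have tB := tw b q k hk iE''' iB iE iQ kE k1 k2 eB hB2 eQ hQ' kL.toLinearMap (fun _ => rfl)
  obtain ⟨z, rfl⟩ := eQ.surjective z
  obtain ⟨y, rfl⟩ := eP'.surjective y
  rw [tQ, tP] at h
  obtain ⟨w, hw⟩ := lTensor_mem (E := E) aL.toLinearMap jL.toLinearMap kL.toLinearMap (by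
    rintro x ⟨y, hy⟩
    exact hB x y hy.symm) z y (eP.injective h)
  exact ⟨eB w, by rw [tB, hw]⟩

/-- Base change of global sections along a flat affine map. -/
theorem isPushout_appTop {X X' S T : Scheme.{u}} {f : X ⟶ S} {f' : X' ⟶ T} {g : X' ⟶ X}
    {b : T ⟶ S} (H : IsPullback g f' f b) [IsAffine S] [IsAffine T] [QuasiCompact f]
    [QuasiSeparated f] [Flat b] : IsPushout f.appTop b.appTop g.appTop f'.appTop := by
  have hXc : CompactSpace X := (quasiCompact_iff_compactSpace f).mp inferInstance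
  have hXq : QuasiSeparatedSpace X := (quasiSeparated_iff_quasiSeparatedSpace f).mp inferInstance
  have hpo := (isIso_pushoutSection_iff H (US := ⊤) (UT := ⊤) (UX := ⊤) (UY := ⊤) le_top le_top
    (by simp)).mp (isIso_pushoutSection_of_isQuasiSeparated_of_flat_right H _ _ _
      (isAffineOpen_top _) (isAffineOpen_top _) isCompact_univ
      (by simpa using isQuasiSeparated_univ))
  simpa [Scheme.Hom.appLE] using hpo

end K600.FlatMem
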