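import Groth.Agent.AlgSt.K600.FacLem

/-!
# Idempotents of an étale base change are defined over a finite algebra

`K600.Idem.exists_lambda`: `f : R ⟶ U` smooth quasi-compact, `U` affine, `F` affine over `U`, finitely many idempotents of
`Γ(R ×_U F)`: there is `F ⟶ Wl`, `Wl` finite over `U`, such that they come from `Γ(R ×_U Wl)`.
-/

set_option autoImplicit false
set_option backward.isDefEq.respectTransparency false
set_option linter.style.haveILetI false

universe u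

open CategoryTheory CategoryTheory.Limits AlgebraicGeometry TensorProduct

namespace K600.Idem

open K600.FlatMem K600.FacLem

theorem sd_of_injective {X Y : Scheme.{u}} [IsAffine Y] (f : X ⟶ Y) (h : Function.Injective f.appTop) [QuasiCompact f] :
    IsSchemeTheoreticallyDominant f := by
  rw [isSchemeTheoreticallyDominant_iff]
  refine Scheme.IdealSheafData.ext_of_isAffine ?_
  rw [Scheme.Hom.ker_apply]
  simp only [Scheme.IdealSheafData.ideal_bot, Pi.bot_apply]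
  rw [← RingHom.injective_iff_ker_eq_bot]
  exact h

theorem isIntegral_of_idem {R S : Type*} [CommRing R] [CommRing S] [Algebra R S] {x : S} (h : IsIdempotentElem x) :
    IsIntegral R x := by
  refine ⟨Polynomial.X ^ 2 - Polynomial.X, ?_, ?_⟩
  · refine Polynomial.monic_X_pow_sub (n := 2) ?_
    refine Polynomial.degree_X_le.trans_lt ?_
    norm_num
  · rw [Polynomial.eval₂_sub, Polynomial.eval₂_pow, Polynomial.eval₂_X, sq, h.eq, sub_self]

/-- The affine line over `ℤ`. -/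
noncomputable abbrev L1 : CommRingCat.{u} := .of (ULift.{u} (Polynomial ℤ))

/-- The morphism to the affine line given by a function. -/
noncomputable def toL (Z : Scheme.{u}) (x : Γ(Z, ⊤)) : Z ⟶ Spec L1 :=
  Z.toSpecΓ ≫ Spec.map (CommRingCat.ofHom
    ((Polynomial.eval₂RingHom (Int.castRingHom Γ(Z, ⊤)) x).comp ULift.ringEquiv.toRingHom))

/-- The function of a morphism to the affine line. -/
noncomputable def ofL {Z : Scheme.{u}} (g : Z ⟶ Spec L1) : Γ(Z, ⊤) :=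
  g.appTop ((Scheme.ΓSpecIso L1).inv (ULift.up Polynomial.X))

theorem ofL_comp {Z Z' : Scheme.{u}} (h : Z' ⟶ Z) (g : Z ⟶ Spec L1) : ofL (h ≫ g) = h.appTop (ofL g) := by
  unfold ofL
  rw [Scheme.Hom.comp_appTop]; rfl

theorem ofL_toL (Z : Scheme.{u}) (x : Γ(Z, ⊤)) : ofL (toL Z x) = x := by
  unfold ofL toL
  rw [Scheme.Hom.comp_appTop, Scheme.toSpecΓ_appTop]
  have h1 := Scheme.ΓSpecIso_inv_naturality (CommRingCat.ofHom
    ((Polynomial.eval₂RingHom (Int.castRingHom Γ(Z, ⊤)) x).comp ULift.ringEquiv.toRingHom) : L1 ⟶ Γ(Z, ⊤))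
  have h2 := congr($h1 (ULift.up Polynomial.X))
  have h3 : ((Polynomial.eval₂RingHom (Int.castRingHom Γ(Z, ⊤)) x).comp ULift.ringEquiv.toRingHom)
    (ULift.up.{u} Polynomial.X) = x := Polynomial.eval₂_X _ _
  change (Scheme.ΓSpecIso _).hom ((Spec.map _).appTop _) = x
  refine (congrArg (Scheme.ΓSpecIso Γ(Z, ⊤)).hom h2.symm).trans ?_
  refine Eq.trans (congr($((Scheme.ΓSpecIso Γ(Z, ⊤)).inv_hom_id) _)) ?_
  exact h3

theorem toL_comp {Z Z' : Scheme.{u}} (h : Z' ⟶ Z) (x : Γ(Z, ⊤)) : h ≫ toL Z x = toL Z' (h.appTop x) := by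
  unfold toL
  rw [Scheme.toSpecΓ_naturality_assoc, ← Spec.map_comp]
  congr 2
  ext y
  obtain ⟨y⟩ := y
  change h.appTop (Polynomial.eval₂ _ x y) = Polynomial.eval₂ _ (h.appTop x) y
  have := Polynomial.hom_eval₂ y (Int.castRingHom Γ(Z, ⊤)) h.appTop.hom x
  refine this.trans ?_
  congr 1
  exact RingHom.ext_int _ _

theorem glue_sec {X U F W : Scheme.{u}} {p : F ⟶ U} {w : W ⟶ U} (i : F ⟶ W) (hi : i ≫ w = p)
    [IsSchemeTheoreticallyDominant i] [QuasiCompact i] (f : X ⟶ U) [Flat f] (𝒰 : X.OpenCover)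
    (x : Γ(pullback f p, ⊤))
    (h : ∀ k, ∃ y, (bm (𝒰.f k ≫ f) i hi).appTop y = (cm (𝒰.f k) f p).appTop x) :
    ∃ y, (bm f i hi).appTop y = x := by
  obtain ⟨g, hg⟩ := glue_fac i hi f 𝒰 (toL _ x) (fun k => by
    obtain ⟨y, hy⟩ := h k
    refine ⟨toL _ y, ?_⟩
    rw [toL_comp, toL_comp, hy])
  refine ⟨ofL g, ?_⟩
  rw [← ofL_comp, hg, ofL_toL]

theorem exists_finset {X U F : Scheme.{u}} [IsAffine X] [IsAffine U] [IsAffine F] (f : X ⟶ U) [Smooth f] (c : F ⟶ U)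
    (ε : Γ(pullback f c, ⊤)) (hε : IsIdempotentElem ε) : letI := c.appTop.hom.toAlgebra
    ∃ s : Finset Γ(F, ⊤), (∀ b ∈ s, IsIntegral Γ(U, ⊤) b) ∧ ∀ D : Subring Γ(pullback f c, ⊤),
      (∀ x, (pullback.fst f c).appTop x ∈ D) → (∀ b ∈ s, (pullback.snd f c).appTop b ∈ D) → ε ∈ D := by
  letI := c.appTop.hom.toAlgebra
  letI := f.appTop.hom.toAlgebra
  haveI : Algebra.Smooth Γ(U, ⊤) Γ(X, ⊤) := by
    have h1 := (HasRingHomProperty.iff_of_isAffine (P := @Smooth) (f := f)).1 inferInstance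
    exact h1
  obtain ⟨e, he⟩ := exists_equiv (isPushout_appTop_of_isPullback (IsPullback.of_hasPullback f c))
  have h1 : IsIdempotentElem (e.symm ε) := hε.map e.symm
  have h2 : IsIntegral Γ(X, ⊤) (e.symm ε) := isIntegral_of_idem h1
  obtain ⟨t, ht⟩ := (TensorProduct.toIntegralClosure_bijective_of_smooth (R := Γ(U, ⊤)) (S := Γ(X, ⊤))
    (B := Γ(F, ⊤))).2 ⟨e.symm ε, h2⟩
  have ht' : Algebra.TensorProduct.map (.id Γ(U, ⊤) Γ(X, ⊤)) (integralClosure Γ(U, ⊤) Γ(F, ⊤)).val t = e.symm ε :=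
    congrArg Subtype.val ht
  have key : ∀ t : Γ(X, ⊤) ⊗[Γ(U, ⊤)] (integralClosure Γ(U, ⊤) Γ(F, ⊤)), ∃ s : Finset Γ(F, ⊤),
      (∀ b ∈ s, IsIntegral Γ(U, ⊤) b) ∧ ∀ D : Subring Γ(pullback f c, ⊤),
      (∀ x, (pullback.fst f c).appTop x ∈ D) → (∀ b ∈ s, (pullback.snd f c).appTop b ∈ D) →
      e (Algebra.TensorProduct.map (.id Γ(U, ⊤) Γ(X, ⊤)) (integralClosure Γ(U, ⊤) Γ(F, ⊤)).val t) ∈ D := by
    classical
    intro t
    induction t with
    | zero => exact ⟨∅, by simp, fun D _ _ => by rw [map_zero, map_zero]; exact D.zero_mem⟩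
    | add x y hx hy =>
      obtain ⟨s, hs, hs'⟩ := hx
      obtain ⟨s', h3, h3'⟩ := hy
      refine ⟨s ∪ s', fun b hb => ?_, fun D h4 h5 => ?_⟩
      · rcases Finset.mem_union.1 hb with hb | hb
        · exact hs b hb
        · exact h3 b hb
      · rw [map_add, map_add]
        exact D.add_mem (hs' D h4 fun b hb => h5 b (Finset.mem_union_left _ hb))
          (h3' D h4 fun b hb => h5 b (Finset.mem_union_right _ hb))
    | tmul x y =>
      refine ⟨{y.1}, fun b hb => ?_, fun D h4 h5 => ?_⟩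
      · rw [Finset.mem_singleton] at hb
        rw [hb]; exact y.2
      · rw [Algebra.TensorProduct.map_tmul, he]
        exact D.mul_mem (h4 _) (h5 _ (Finset.mem_singleton_self _))
  obtain ⟨s, hs, hs'⟩ := key t
  refine ⟨s, hs, fun D h4 h5 => ?_⟩
  have h6 := hs' D h4 h5
  rwa [ht', e.apply_symm_apply] at h6

theorem exists_lambda {R U F : Scheme.{u}} [IsAffine U] [IsAffine F] (f : R ⟶ U) [Smooth f] [QuasiCompact f] (c : F ⟶ U)
    {κ : Type*} [Finite κ] (ε : κ → Γ(pullback f c, ⊤)) (hε : ∀ k, IsIdempotentElem (ε k)) :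
    ∃ (Wl : Scheme.{u}) (_ : IsAffine Wl) (cl : Wl ⟶ U) (_ : IsFinite cl) (i : F ⟶ Wl) (hi : i ≫ cl = c)
      (_ : IsSchemeTheoreticallyDominant i), ∀ k, ∃ y, (bm f i hi).appTop y = ε k := by
  classical
  haveI : CompactSpace R := (quasiCompact_iff_compactSpace f).mp inferInstance
  let 𝒰 := R.affineCover.finiteSubcover
  haveI : ∀ l, IsAffine (𝒰.X l) := fun l => inferInstanceAs (IsAffine (R.affineCover.X _))
  letI := c.appTop.hom.toAlgebra
  have h1 := fun (k : κ) (l : 𝒰.I₀) => exists_finset (𝒰.f l ≫ f) c ((cm (𝒰.f l) f c).appTop (ε k))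
    ((hε k).map (cm (𝒰.f l) f c).appTop.hom)
  choose s hs hs' using h1
  haveI : Finite 𝒰.I₀ := inferInstance
  cases nonempty_fintype 𝒰.I₀
  cases nonempty_fintype κ
  let s₀ : Finset Γ(F, ⊤) := Finset.univ.biUnion fun k => Finset.univ.biUnion fun l => s k l
  have hs₀ : ∀ b ∈ s₀, IsIntegral Γ(U, ⊤) b := fun b hb => by
    simp only [s₀, Finset.mem_biUnion, Finset.mem_univ, true_and] at hb
    obtain ⟨k, l, hb⟩ := hb
    exact hs k l b hb
  let B : Subalgebra Γ(U, ⊤) Γ(F, ⊤) := Algebra.adjoin Γ(U, ⊤) (s₀ : Set Γ(F, ⊤))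
  haveI : Module.Finite Γ(U, ⊤) B := by
    have h2 := fg_adjoin_of_finite s₀.finite_toSet hs₀
    exact ⟨(Submodule.fg_top _).2 h2⟩
  let κ₀ : CommRingCat.of B ⟶ Γ(F, ⊤) := CommRingCat.ofHom B.val.toRingHom
  let i : F ⟶ Spec (.of B) := F.toSpecΓ ≫ Spec.map κ₀
  let cl : Spec (.of B) ⟶ U := Spec.map (CommRingCat.ofHom (algebraMap Γ(U, ⊤) B)) ≫ U.isoSpec.inv
  have hi : i ≫ cl = c := by
    simp only [i, cl, Category.assoc]
    rw [← Spec.map_comp_assoc]
    have h3 : CommRingCat.ofHom (algebraMap Γ(U, ⊤) B) ≫ κ₀ = c.appTop := rfl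
    rw [h3, ← Scheme.toSpecΓ_naturality_assoc]
    simp [Scheme.isoSpec]
  have hπ : (Scheme.ΓSpecIso (.of B)).inv ≫ i.appTop = κ₀ := by
    rw [Scheme.Hom.comp_appTop, Scheme.toSpecΓ_appTop]
    rw [reassoc_of% Scheme.ΓSpecIso_inv_naturality κ₀ |>.symm]
    simp
  have hπ' : i.appTop = (Scheme.ΓSpecIso (.of B)).hom ≫ κ₀ := by rw [← hπ, Iso.hom_inv_id_assoc]
  have hinj : Function.Injective i.appTop := by
    rw [hπ']
    intro x y h
    have h1 : (Scheme.ΓSpecIso (.of B)).hom x = (Scheme.ΓSpecIso (.of B)).hom y := Subtype.val_injective h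
    have h2 := congrArg (Scheme.ΓSpecIso (.of B)).inv h1
    have h3 : ∀ x, (Scheme.ΓSpecIso (.of B)).inv ((Scheme.ΓSpecIso (.of B)).hom x) = x := fun x =>
      congr($((Scheme.ΓSpecIso (.of B)).hom_inv_id) x)
    rwa [h3, h3] at h2
  haveI sd : IsSchemeTheoreticallyDominant i := sd_of_injective i hinj
  haveI hfin : IsFinite cl := by
    haveI : IsFinite (Spec.map (CommRingCat.ofHom (algebraMap Γ(U, ⊤) B))) := by
      rw [IsFinite.SpecMap_iff]
      exact RingHom.finite_algebraMap.2 inferInstance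
    infer_instance
  refine ⟨Spec (.of B), inferInstance, cl, hfin, i, hi, sd, fun k => ?_⟩
  refine glue_sec i hi f 𝒰 (ε k) (fun l => ?_)
  have h5 := hs' k l (bm (𝒰.f l ≫ f) i hi).appTop.hom.range (fun x => ?_) (fun b hb => ?_)
  · obtain ⟨y, hy⟩ := h5
    exact ⟨y, hy⟩
  · refine ⟨(pullback.fst (𝒰.f l ≫ f) cl).appTop x, ?_⟩
    have h6 := congr($(congrArg Scheme.Hom.appTop (bm_fst (𝒰.f l ≫ f) i hi)) x)
    rw [Scheme.Hom.comp_appTop] at h6
    exact h6
  · have hb' : b ∈ B := Algebra.subset_adjoin (by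
      simp only [s₀, Finset.coe_biUnion, Finset.mem_coe, Finset.mem_univ, Set.iUnion_true, Set.mem_iUnion]
      exact ⟨k, l, hb⟩)
    refine ⟨(pullback.snd (𝒰.f l ≫ f) cl).appTop ((Scheme.ΓSpecIso (.of B)).inv ⟨b, hb'⟩), ?_⟩
    have h6 := congr($(congrArg Scheme.Hom.appTop (bm_snd (𝒰.f l ≫ f) i hi))
      ((Scheme.ΓSpecIso (.of B)).inv ⟨b, hb'⟩))
    rw [Scheme.Hom.comp_appTop, Scheme.Hom.comp_appTop] at h6
    refine Eq.trans h6 ?_
    exact congrArg (pullback.snd (𝒰.f l ≫ f) c).appTop congr($hπ ⟨b, hb'⟩)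

end K600.Idem
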