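import Groth.Agent.AlgSt.K600.Pieces
import Groth.Agent.AlgSp.K610.SchLocus
import Groth.Agent.AlgSp.K594.Bootstrap
import Groth.Agent.AlgSp.K613.Basic

/-!
# The quotient of a finite cover of an étale groupoid

`K600.QuotSch.exists_quot`: if the pieces `{(r, x) | x ∈ O i, r x ∈ O j} ⟶ W` are monomorphisms then `W` has an étale
quotient scheme by the action of `G`.
-/

set_option autoImplicit false
set_option backward.isDefEq.respectTransparency false
set_option linter.style.haveILetI false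

universe u

open CategoryTheory CategoryTheory.Limits AlgebraicGeometry TopologicalSpace Opposite

namespace K600.QuotSch

open K746 Groth.Agent.Grpsch.Points AlgSp

variable {S : Scheme.{u}} {G : Grpd.GroupoidScheme S} {W : Scheme.{u}} {w : W ⟶ G.U} (A : Act G w) {J : Type u}
  (O : J → W.Opens)

theorem inj (hO : ∀ x : W, ∃ j, x ∈ O j)
    (hm : ∀ i j, Mono (((pullback.snd G.s w ⁻¹ᵁ O i) ⊓ (A.act ⁻¹ᵁ O j)).ι ≫ pullback.snd G.s w))
    {T : Scheme.{u}} (r r' : T ⟶ pullback G.s w) (h1 : r ≫ pullback.snd G.s w = r' ≫ pullback.snd G.s w)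
    (h2 : r ≫ A.act = r' ≫ A.act) : r = r' := by
  let V : J × J → T.Opens := fun ij => r ⁻¹ᵁ ((pullback.snd G.s w ⁻¹ᵁ O ij.1) ⊓ (A.act ⁻¹ᵁ O ij.2))
  have hV : IsOpenCover V := by
    refine IsOpenCover.mk (TopologicalSpace.Opens.ext (Set.eq_univ_of_forall fun x => ?_))
    obtain ⟨i, hi⟩ := hO (pullback.snd G.s w (r x))
    obtain ⟨j, hj⟩ := hO (A.act (r x))
    simp only [Opens.coe_iSup, Set.mem_iUnion]
    exact ⟨(i, j), hi, hj⟩
  refine Scheme.Cover.hom_ext (T.openCoverOfIsOpenCover V hV) _ _ fun ij => ?_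
  obtain ⟨i, j⟩ := ij
  change (V (i, j)).ι ≫ r = (V (i, j)).ι ≫ r'
  have key : ∀ (ρ : T ⟶ pullback G.s w), ρ ≫ pullback.snd G.s w = r ≫ pullback.snd G.s w → ρ ≫ A.act = r ≫ A.act →
      ∃ k, k ≫ ((pullback.snd G.s w ⁻¹ᵁ O i) ⊓ (A.act ⁻¹ᵁ O j)).ι = (V (i, j)).ι ≫ ρ := by
    intro ρ e1 e2
    refine ⟨IsOpenImmersion.lift ((pullback.snd G.s w ⁻¹ᵁ O i) ⊓ (A.act ⁻¹ᵁ O j)).ι ((V (i, j)).ι ≫ ρ) ?_,
      IsOpenImmersion.lift_fac _ _ _⟩
    rintro _ ⟨y, rfl⟩
    rw [Scheme.Opens.range_ι]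
    have h3 : r ((V (i, j)).ι y) ∈ ((pullback.snd G.s w ⁻¹ᵁ O i) ⊓ (A.act ⁻¹ᵁ O j)) := y.2
    have h4 : pullback.snd G.s w (r ((V (i, j)).ι y)) ∈ O i := h3.1
    have h5 : A.act (r ((V (i, j)).ι y)) ∈ O j := h3.2
    rw [← Scheme.Hom.comp_apply, ← e1, Scheme.Hom.comp_apply] at h4
    rw [← Scheme.Hom.comp_apply, ← e2, Scheme.Hom.comp_apply] at h5
    rw [Scheme.Hom.comp_apply]
    exact ⟨h4, h5⟩
  obtain ⟨k, hk⟩ := key r rfl rfl
  obtain ⟨k', hk'⟩ := key r' h1.symm h2.symm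
  have := hm i j
  have h6 : k = k' := by
    rw [← cancel_mono (((pullback.snd G.s w ⁻¹ᵁ O i) ⊓ (A.act ⁻¹ᵁ O j)).ι ≫ pullback.snd G.s w),
      reassoc_of% hk, reassoc_of% hk', h1]
  rw [← hk, ← hk', h6]

/-- `W` over `S`. -/
noncomputable abbrev WS (w : W ⟶ G.U) : Over S := Over.mk (w ≫ G.pU)

/-- `R ×_U W` over `S`. -/
noncomputable abbrev RS (w : W ⟶ G.U) : Over S := Over.mk (pullback.fst G.s w ≫ G.pR)

noncomputable def sS (w : W ⟶ G.U) : RS w ⟶ WS w := Over.homMk (pullback.snd G.s w) (by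
  change pullback.snd G.s w ≫ w ≫ G.pU = pullback.fst G.s w ≫ G.pR
  rw [← G.s_over, pullback.condition_assoc])

noncomputable def tS : RS w ⟶ WS w := Over.homMk A.act (by
  change A.act ≫ w ≫ G.pU = pullback.fst G.s w ≫ G.pR
  rw [← Category.assoc, A.act_comp_c, Category.assoc, G.t_over])

theorem isEtale_t [Etale G.s] : Etale A.act := by
  haveI : Etale G.t := by
    rw [← G.i_s]; infer_instance
  exact MorphismProperty.of_isPullback (P := @Etale) A.isPullback_t this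

theorem isEtaleEqvRel [Etale G.s] (hO : ∀ x : W, ∃ j, x ∈ O j)
    (hm : ∀ i j, Mono (((pullback.snd G.s w ⁻¹ᵁ O i) ⊓ (A.act ⁻¹ᵁ O j)).ι ≫ pullback.snd G.s w)) :
    IsEtaleEqvRel (sS w) (tS A) where
  injective T r r' h1 h2 := by
    apply Over.OverMorphism.ext
    exact inj A O hO hm r.left r'.left (congrArg CommaMorphism.left h2) (congrArg CommaMorphism.left h1)
  equivalence T := by
    refine ⟨fun a => ?_, ?_, ?_⟩
    · let e : WS w ⟶ RS w := Over.homMk A.gpd.e (by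
        change A.gpd.e ≫ A.gpd.pR = A.gpd.pU
        rw [← A.gpd.s_over, ← Category.assoc, A.gpd.e_s, Category.id_comp])
      refine ⟨a ≫ e, ?_, ?_⟩
      · apply Over.OverMorphism.ext
        change (a.left ≫ A.gpd.e) ≫ A.gpd.t = a.left
        rw [Category.assoc, A.gpd.e_t]; exact Category.comp_id _
      · apply Over.OverMorphism.ext
        change (a.left ≫ A.gpd.e) ≫ A.gpd.s = a.left
        rw [Category.assoc, A.gpd.e_s]; exact Category.comp_id _
    · rintro a b ⟨r, rfl, rfl⟩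
      let i : RS w ⟶ RS w := Over.homMk A.gpd.i (by
        change A.gpd.i ≫ A.gpd.pR = A.gpd.pR
        rw [← A.gpd.s_over, ← Category.assoc, A.gpd.i_s, A.gpd.t_over, A.gpd.s_over])
      refine ⟨r ≫ i, ?_, ?_⟩
      · apply Over.OverMorphism.ext
        change (r.left ≫ A.gpd.i) ≫ A.gpd.t = r.left ≫ A.gpd.s
        rw [Category.assoc, A.gpd.i_t]
      · apply Over.OverMorphism.ext
        change (r.left ≫ A.gpd.i) ≫ A.gpd.s = r.left ≫ A.gpd.t
        rw [Category.assoc, A.gpd.i_s]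
    · rintro a b c ⟨r, rfl, hr⟩ ⟨r', hr', rfl⟩
      have h1 : r.left ≫ pullback.snd G.s w = r'.left ≫ A.act := congrArg CommaMorphism.left (hr.trans hr'.symm)
      let r'' : T ⟶ RS w := Over.homMk (A.comp r.left r'.left h1) (by
        have h2 : A.comp r.left r'.left h1 ≫ A.gpd.pR = T.hom := by
          rw [← A.gpd.s_over]
          change A.comp r.left r'.left h1 ≫ pullback.snd G.s w ≫ A.gpd.pU = T.hom
          rw [← Category.assoc, A.comp_snd, Category.assoc]
          have h3 : pullback.snd G.s w ≫ A.gpd.pU = A.gpd.pR := A.gpd.s_over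
          rw [h3]
          exact Over.w r'
        exact h2)
      refine ⟨r'', ?_, ?_⟩
      · apply Over.OverMorphism.ext
        exact A.comp_comp_act r.left r'.left h1
      · apply Over.OverMorphism.ext
        exact A.comp_snd r.left r'.left h1
  etale_left := (inferInstance : Etale (pullback.snd G.s w))
  etale_right := isEtale_t A

theorem isOpenImmersion_of_mono {F F' : Sp S} (f : F ⟶ F') [Mono f] (h : RepWith @Etale f) :
    RepWith @IsOpenImmersion f := by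
  refine ⟨h.1, fun U V g fst snd sq => ?_⟩
  haveI : Etale snd.left := h.2 g fst snd sq
  haveI : Mono ((yon S).map snd) := by
    rw [← sq.isoPullback_hom_snd]
    infer_instance
  haveI : Mono snd := (yon S).mono_of_mono_map this
  haveI : Mono snd.left := inferInstance
  have h2 : IsOpenImmersion snd.left := IsOpenImmersion.of_flat_of_mono snd.left
  exact h2

theorem mono_chart {F : Sp S} {p : (yon S).obj (WS w) ⟶ F} (hP : IsPresentation (sS w) (tS A) p)
    (hm : ∀ i j, Mono (((pullback.snd G.s w ⁻¹ᵁ O i) ⊓ (A.act ⁻¹ᵁ O j)).ι ≫ pullback.snd G.s w)) (i : J)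
    {Oi : Over S} (ι : Oi ⟶ WS w) [IsOpenImmersion ι.left] (hι : Set.range ι.left = (O i : Set W)) :
    Mono ((yon S).map ι ≫ p) := by
  refine K613.Basic.mono_of_injective fun T x y h => ?_
  obtain ⟨a, rfl⟩ := (yon S).map_surjective x
  obtain ⟨b, rfl⟩ := (yon S).map_surjective y
  rw [← Category.assoc, ← Category.assoc, ← Functor.map_comp, ← Functor.map_comp] at h
  obtain ⟨r₀, hr₀⟩ := (yon S).map_surjective (hP.isPullback.lift _ _ h)
  have e1 : r₀ ≫ tS A = a ≫ ι := by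
    apply (yon S).map_injective
    rw [Functor.map_comp, hr₀, hP.isPullback.lift_fst]
  have e2 : r₀ ≫ sS w = b ≫ ι := by
    apply (yon S).map_injective
    rw [Functor.map_comp, hr₀, hP.isPullback.lift_snd]
  have e1' : r₀.left ≫ A.act = a.left ≫ ι.left := congrArg CommaMorphism.left e1
  have e2' : r₀.left ≫ pullback.snd G.s w = b.left ≫ ι.left := congrArg CommaMorphism.left e2
  let r₁ : T.left ⟶ pullback G.s w := (b.left ≫ ι.left) ≫ A.gpd.e
  have f1 : r₁ ≫ A.act = b.left ≫ ι.left := by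
    have := A.gpd.e_t
    change ((b.left ≫ ι.left) ≫ A.gpd.e) ≫ A.gpd.t = _
    rw [Category.assoc, A.gpd.e_t]; exact Category.comp_id _
  have f2 : r₁ ≫ pullback.snd G.s w = b.left ≫ ι.left := by
    change ((b.left ≫ ι.left) ≫ A.gpd.e) ≫ A.gpd.s = _
    rw [Category.assoc, A.gpd.e_s]; exact Category.comp_id _
  have hmem : ∀ (g : T.left ⟶ Oi.left) (y : T.left), (g ≫ ι.left) y ∈ O i := fun g y => by
    have : (g ≫ ι.left) y ∈ Set.range ι.left := ⟨g y, (Scheme.Hom.comp_apply _ _ _).symm⟩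
    rw [hι] at this
    exact this
  have key : ∀ (ρ : T.left ⟶ pullback G.s w) (c d : T.left ⟶ Oi.left), ρ ≫ pullback.snd G.s w = c ≫ ι.left →
      ρ ≫ A.act = d ≫ ι.left →
      ∃ k, k ≫ ((pullback.snd G.s w ⁻¹ᵁ O i) ⊓ (A.act ⁻¹ᵁ O i)).ι = ρ := by
    intro ρ c d e1 e2
    refine ⟨IsOpenImmersion.lift ((pullback.snd G.s w ⁻¹ᵁ O i) ⊓ (A.act ⁻¹ᵁ O i)).ι ρ ?_,
      IsOpenImmersion.lift_fac _ _ _⟩
    rintro _ ⟨y, rfl⟩
    rw [Scheme.Opens.range_ι]
    have h3 := hmem c y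
    have h4 := hmem d y
    rw [← e1, Scheme.Hom.comp_apply] at h3
    rw [← e2, Scheme.Hom.comp_apply] at h4
    exact ⟨h3, h4⟩
  obtain ⟨k, hk⟩ := key r₀.left b.left a.left e2' e1'
  obtain ⟨k', hk'⟩ := key r₁ b.left b.left f2 f1
  have := hm i i
  have h6 : k = k' := by
    rw [← cancel_mono (((pullback.snd G.s w ⁻¹ᵁ O i) ⊓ (A.act ⁻¹ᵁ O i)).ι ≫ pullback.snd G.s w),
      reassoc_of% hk, reassoc_of% hk', e2', f2]
  have h7 : a.left ≫ ι.left = b.left ≫ ι.left := by rw [← e1', ← f1, ← hk, ← hk', h6]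
  have h8 : a = b := by
    apply Over.OverMorphism.ext
    rwa [cancel_mono] at h7
  rw [h8]

theorem exists_of_presentation {F : Sp S} {p : (yon S).obj (WS w) ⟶ F} (hP : IsPresentation (sS w) (tS A) p)
    (hO : ∀ x : W, ∃ j, x ∈ O j)
    (hm : ∀ i j, Mono (((pullback.snd G.s w ⁻¹ᵁ O i) ⊓ (A.act ⁻¹ᵁ O j)).ι ≫ pullback.snd G.s w)) :
    ∃ (Z : Over S) (q : WS w ⟶ Z), Etale q.left ∧ Surjective q.left ∧ IsPullback (tS A) (sS w) q q := by
  let Oi : J → Over S := fun i => Over.mk ((O i).ι ≫ w ≫ G.pU)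
  let ι : ∀ i, Oi i ⟶ WS w := fun i => Over.homMk (O i).ι
  have hι : ∀ i, Set.range (ι i).left = (O i : Set W) := fun i => (O i).range_ι
  have hι' : ∀ i, IsOpenImmersion (ι i).left := fun i => (inferInstance : IsOpenImmersion (O i).ι)
  have hf : ∀ i, RepWith @IsOpenImmersion ((yon S).map (ι i) ≫ p) := fun i => by
    haveI := hι' i
    haveI := mono_chart A O hP hm i (ι i) (hι i)
    refine isOpenImmersion_of_mono _ (MorphismProperty.comp_mem (RepWith @Etale) _ _ ?_ hP.etale)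
    exact (repWith_yon_map_iff _ _).2 (inferInstanceAs (Etale (O i).ι))
  obtain ⟨Z, e, -, -, -, -⟩ := K610.ZarGlue.exists_iso_of_openCover Oi (fun i => (yon S).map (ι i) ≫ p) hf (by
    intro x
    obtain ⟨t, rfl⟩ := K610.Base.surjective_ofPt hP.surjective x
    obtain ⟨i, hi⟩ := hO t
    refine ⟨i, ?_⟩
    rw [← K610.SchLocus.range_ofPt]
    refine ⟨⟨t, hi⟩, ?_⟩
    rw [K610.Base.ofPt_map_comp]
    rfl)
  obtain ⟨q, hq⟩ := (yon S).map_surjective (p ≫ e.inv)
  have h1 : RepWith @Etale ((yon S).map q) := by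
    rw [hq]
    exact (MorphismProperty.cancel_right_of_respectsIso (RepWith @Etale) p e.inv).2 hP.etale
  have h2 : RepWith @Surjective ((yon S).map q) := by
    rw [hq]
    exact (MorphismProperty.cancel_right_of_respectsIso (RepWith @Surjective) p e.inv).2 hP.surjective
  refine ⟨Z, q, (repWith_yon_map_iff _ _).1 h1, (repWith_yon_map_iff _ _).1 h2, ?_⟩
  refine IsPullback.of_map (yon S) ?_ ?_
  · apply (yon S).map_injective
    rw [Functor.map_comp, Functor.map_comp, hq, reassoc_of% hP.isPullback.w]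
  · rw [hq]
    exact IsPullback.of_iso hP.isPullback (Iso.refl _) (Iso.refl _) (Iso.refl _) e.symm (by simp) (by simp) (by simp)
      (by simp)

theorem exists_quot [Etale G.s] (hO : ∀ x : W, ∃ j, x ∈ O j)
    (hm : ∀ i j, Mono (((pullback.snd G.s w ⁻¹ᵁ O i) ⊓ (A.act ⁻¹ᵁ O j)).ι ≫ pullback.snd G.s w)) :
    ∃ (Z : Over S) (q : WS w ⟶ Z), Etale q.left ∧ Surjective q.left ∧ IsPullback (tS A) (sS w) q q :=
  exists_of_presentation A O (K594.Bootstrap.quot_isPresentation (isEtaleEqvRel A O hO hm)) hO hm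

end K600.QuotSch
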