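import Groth.Agent.AlgSt.K600.Idem
import Groth.Agent.AlgSt.K746.Act

/-!
# The largest quotient of an affine `G`-scheme through a given affine scheme under it

`A : Act G c`, `c : F ⟶ G.U` affine, `i : F ⟶ Wλ` scheme theoretically dominant over `G.U`, `G.s` flat.
`K600.Stable.exists_stable`: there is a universal `F ⟶ W` with an action on `W`, `F ⟶ Wλ ⟶ W`.
-/

set_option autoImplicit false
set_option backward.isDefEq.respectTransparency false
set_option linter.style.haveILetI false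

set_option linter.unusedSectionVars false

universe u

open CategoryTheory CategoryTheory.Limits AlgebraicGeometry

namespace K600.Stable

open K600.FlatMem K600.FacLem K600.Idem K746 Groth.Agent.Grpsch.Points

variable {S : Scheme.{u}} (G : Grpd.GroupoidScheme S)

section Mu

variable {X Z Z' : Scheme.{u}} (k : X ⟶ G.R) (z : Z ⟶ G.U)

/-- `(x, (r, z)) ↦ (x r, z)`. -/
noncomputable def mu : pullback (k ≫ G.s) (pullback.fst G.s z ≫ G.t) ⟶ pullback G.s z :=
  pullback.lift (mul G (pullback.fst _ _ ≫ k) (pullback.snd _ _ ≫ pullback.fst G.s z) (by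
      rw [Category.assoc, pullback.condition, Category.assoc]))
    (pullback.snd _ _ ≫ pullback.snd G.s z) (by
      rw [mul_s, Category.assoc, Category.assoc, pullback.condition])

theorem mu_bm {z : Z ⟶ G.U} {z' : Z' ⟶ G.U} (i : Z ⟶ Z') (hi : i ≫ z' = z)
    (h : bm G.s i hi ≫ pullback.fst G.s z' ≫ G.t = pullback.fst G.s z ≫ G.t) :
    mu G k z ≫ bm G.s i hi = bm (k ≫ G.s) (bm G.s i hi) h ≫ mu G k z' := by
  apply pullback.hom_ext
  · rw [Category.assoc, bm_fst, mu, pullback.lift_fst, Category.assoc, mu, pullback.lift_fst, comp_mul]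
    apply mul_congr
    · rw [bm_fst_assoc]
    · rw [bm_snd_assoc, bm_fst]
  · rw [Category.assoc, bm_snd, mu, pullback.lift_snd_assoc, Category.assoc, Category.assoc, mu, pullback.lift_snd,
      bm_snd_assoc, bm_snd]

variable {G} in
theorem mu_act {c : Z ⟶ G.U} (A : Act G c) (h : A.act ≫ c = pullback.fst G.s c ≫ G.t) :
    mu G k c ≫ A.act = bm (k ≫ G.s) A.act h ≫ cm k G.s c ≫ A.act := by
  have e0 : (pullback.fst (k ≫ G.s) (pullback.fst G.s c ≫ G.t) ≫ k) ≫ G.s =
      (pullback.snd (k ≫ G.s) (pullback.fst G.s c ≫ G.t) ≫ pullback.fst G.s c) ≫ G.t := by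
    rw [Category.assoc, pullback.condition, Category.assoc]
  have e1 : (pullback.snd (k ≫ G.s) (pullback.fst G.s c ≫ G.t) ≫ pullback.fst G.s c) ≫ G.s =
      (pullback.snd (k ≫ G.s) (pullback.fst G.s c ≫ G.t) ≫ pullback.snd G.s c) ≫ c := by
    rw [Category.assoc, Category.assoc, pullback.condition]
  have e2 : A.dot _ _ e1 = pullback.snd (k ≫ G.s) (pullback.fst G.s c ≫ G.t) ≫ A.act := (A.comp_act _).symm
  have e3 : (pullback.fst (k ≫ G.s) (pullback.fst G.s c ≫ G.t) ≫ k) ≫ G.s = A.dot _ _ e1 ≫ c := by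
    rw [e2, Category.assoc (pullback.snd (k ≫ G.s) (pullback.fst G.s c ≫ G.t)), h, e0, Category.assoc]
  refine (A.mul_dot _ _ _ e0 e1 (by rw [mul_s, e1]) e3).trans ?_
  rw [← Category.assoc, A.comp_act]
  apply A.dot_congr
  · rw [Category.assoc, cm_fst, bm_fst_assoc]
  · rw [e2, Category.assoc, cm_snd, bm_snd]

end Mu

section

variable {G} [IsAffine G.U] [Flat G.s] [QuasiCompact G.s] [QuasiSeparated G.s]
  [QuasiCompact G.t] [QuasiSeparated G.t] {F Wl : Scheme.{u}} [IsAffine F] [IsAffine Wl] {c : F ⟶ G.U}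
  (A : Act G c) {cl : Wl ⟶ G.U} (i : F ⟶ Wl) (hi : i ≫ cl = c)

/-- The subring of `Γ(F)` of the `b` with `act^* b` in `Γ(R ×_U Wl)`. -/
noncomputable def sub : Subring Γ(F, ⊤) := (bm G.s i hi).appTop.hom.range.comap A.act.appTop.hom

omit [IsAffine G.U] [Flat G.s] [QuasiCompact G.s] [QuasiSeparated G.s]
  [QuasiCompact G.t] [QuasiSeparated G.t] [IsAffine F] [IsAffine Wl] in
theorem mem_sub (x : Γ(F, ⊤)) : x ∈ sub A i hi ↔ ∃ y, A.act.appTop x = (bm G.s i hi).appTop y := by
  constructor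
  · rintro ⟨y, hy⟩; exact ⟨y, hy.symm⟩
  · rintro ⟨y, hy⟩; exact ⟨y, hy.symm⟩

theorem exists_quot [IsSchemeTheoreticallyDominant i] : ∃ (W : Scheme.{u}) (_ : IsAffine W) (π : F ⟶ W)
    (w : W ⟶ G.U) (_ : π ≫ w = c) (_ : IsSchemeTheoreticallyDominant π)
    (β : pullback G.s cl ⟶ W), A.act ≫ π = bm G.s i hi ≫ β ∧
      (∀ (x : Γ(F, ⊤)) (y : Γ(pullback G.s cl, ⊤)), A.act.appTop x = (bm G.s i hi).appTop y →
        ∃ z : Γ(W, ⊤), π.appTop z = x) ∧
      ∀ (Y : Scheme.{u}) [IsAffine Y] (g : F ⟶ Y) (g' : pullback G.s cl ⟶ Y), A.act ≫ g = bm G.s i hi ≫ g' →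
        ∃ g₁ : W ⟶ Y, π ≫ g₁ = g := by
  let B : CommRingCat.{u} := .of (sub A i hi)
  let κ : B ⟶ Γ(F, ⊤) := CommRingCat.ofHom (sub A i hi).subtype
  let π : F ⟶ Spec B := F.toSpecΓ ≫ Spec.map κ
  have hπ : (Scheme.ΓSpecIso B).inv ≫ π.appTop = κ := by
    rw [Scheme.Hom.comp_appTop, Scheme.toSpecΓ_appTop]
    have := Scheme.ΓSpecIso_naturality κ
    rw [reassoc_of% Scheme.ΓSpecIso_inv_naturality κ |>.symm]
    simp
  have hπ' : π.appTop = (Scheme.ΓSpecIso B).hom ≫ κ := by rw [← hπ, Iso.hom_inv_id_assoc]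
  have hinj : Function.Injective π.appTop := by
    rw [hπ']
    intro x y h
    have h1 : (Scheme.ΓSpecIso B).hom x = (Scheme.ΓSpecIso B).hom y := Subtype.val_injective h
    have h2 := congrArg (Scheme.ΓSpecIso B).inv h1
    have h3 : ∀ x, (Scheme.ΓSpecIso B).inv ((Scheme.ΓSpecIso B).hom x) = x := fun x =>
      congr($((Scheme.ΓSpecIso B).hom_inv_id) x)
    rwa [h3, h3] at h2
  have hrange : ∀ x : Γ(F, ⊤), x ∈ sub A i hi → ∃ z, π.appTop z = x := fun x hx =>
    ⟨(Scheme.ΓSpecIso B).inv ⟨x, hx⟩, congr($hπ ⟨x, hx⟩)⟩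
  have hmem : ∀ z, π.appTop z ∈ sub A i hi := fun z => by
    rw [hπ']
    exact ((Scheme.ΓSpecIso B).hom z).2
  have sd : IsSchemeTheoreticallyDominant π := sd_of_injective π hinj
  have hact := A.act_comp_c
  obtain ⟨s1, s2⟩ := sd_bm G.s i hi
  obtain ⟨w, hw⟩ := exists_fac_of_sections (i := π) c (fun y => by
    refine hrange _ ((mem_sub A i hi _).2 ⟨(pullback.fst G.s cl ≫ G.t).appTop y, ?_⟩)
    have e1 : A.act ≫ c = bm G.s i hi ≫ pullback.fst G.s cl ≫ G.t := by rw [hact, bm_fst_assoc]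
    have e2 := congr($(congrArg Scheme.Hom.appTop e1) y)
    rw [Scheme.Hom.comp_appTop, Scheme.Hom.comp_appTop (bm G.s i hi)] at e2
    exact e2)
  obtain ⟨β, hβ⟩ := exists_fac_of_sections (i := bm G.s i hi) (A.act ≫ π) (fun y => by
    obtain ⟨z, hz⟩ := (mem_sub A i hi _).1 (hmem y)
    refine ⟨z, ?_⟩
    rw [← hz, Scheme.Hom.comp_appTop]
    rfl)
  refine ⟨Spec B, inferInstance, π, w, hw, sd, β, hβ.symm,
    fun x y hxy => hrange x ((mem_sub A i hi x).2 ⟨y, hxy⟩), ?_⟩
  intro Y _ g g' hg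
  refine exists_fac_of_sections (i := π) g (fun y => hrange _ ((mem_sub A i hi _).2 ⟨g'.appTop y, ?_⟩))
  have e2 := congr($(congrArg Scheme.Hom.appTop hg) y)
  rw [Scheme.Hom.comp_appTop, Scheme.Hom.comp_appTop] at e2
  exact e2

/-- The quotient through `Wl` with its action. -/
theorem exists_stable [IsSchemeTheoreticallyDominant i] : ∃ (W : Scheme.{u}) (_ : IsAffine W) (π : F ⟶ W)
    (w : W ⟶ G.U) (hπ : π ≫ w = c) (_ : IsSchemeTheoreticallyDominant π) (A' : Act G w),
      A.act ≫ π = bm G.s π hπ ≫ A'.act ∧ (∃ σ : Wl ⟶ W, i ≫ σ = π) ∧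
      ∀ (x : Γ(F, ⊤)) (y : Γ(pullback G.s cl, ⊤)), A.act.appTop x = (bm G.s i hi).appTop y →
        ∃ z : Γ(W, ⊤), π.appTop z = x := by
  obtain ⟨W, _, π, w, hπ, sd, β, hβ, hB, huniv⟩ := exists_quot A i hi
  have hact := A.act_comp_c
  obtain ⟨si1, si2⟩ := sd_bm G.s i hi
  obtain ⟨sp1, sp2⟩ := sd_bm G.s π hπ
  have hb : bm G.s i hi ≫ pullback.fst G.s cl ≫ G.t = pullback.fst G.s c ≫ G.t := bm_fst_assoc _ _ _ _
  have hc : QuasiCompact (pullback.fst G.s c) ∧ QuasiSeparated (pullback.fst G.s c) := ⟨inferInstance, inferInstance⟩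
  have hcl : QuasiCompact (pullback.fst G.s cl) ∧ QuasiSeparated (pullback.fst G.s cl) :=
    ⟨inferInstance, inferInstance⟩
  obtain ⟨hc1, hc2⟩ := hc
  obtain ⟨hcl1, hcl2⟩ := hcl
  have key : ∀ k, ∃ g₁ : pullback (G.R.affineCover.f k ≫ G.s) w ⟶ W,
      bm (G.R.affineCover.f k ≫ G.s) π hπ ≫ g₁ = cm (G.R.affineCover.f k) G.s c ≫ A.act ≫ π := by
    intro k
    refine exists_fac (P := pullback G.s c) (P' := pullback G.s cl) (q := c) (p := pullback.fst G.s c ≫ G.t)
      (p' := pullback.fst G.s cl ≫ G.t) (w := w) A.act hact (bm G.s i hi) hb π hπ hB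
      (G.R.affineCover.f k ≫ G.s) (cm (G.R.affineCover.f k) G.s c ≫ A.act ≫ π)
      (mu G (G.R.affineCover.f k) cl ≫ β) ?_
    rw [← reassoc_of% mu_bm G (G.R.affineCover.f k) i hi hb, ← hβ]
    rw [← reassoc_of% mu_act (G.R.affineCover.f k) A hact]
  obtain ⟨act', hact'⟩ := glue_fac π hπ G.s G.R.affineCover (A.act ≫ π) key
  have e_c : act' ≫ w = pullback.fst G.s w ≫ G.t := by
    refine sd_ext (bm G.s π hπ) ?_
    rw [reassoc_of% hact', hπ, hact, bm_fst_assoc]
  have e_one : pullback.lift (w ≫ G.e) (𝟙 W) (by rw [Category.assoc, G.e_s, Category.comp_id, Category.id_comp]) ≫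
      act' = 𝟙 W := by
    refine sd_ext π ?_
    have h1 : π ≫ pullback.lift (w ≫ G.e) (𝟙 W) (by rw [Category.assoc, G.e_s, Category.comp_id, Category.id_comp]) =
        pullback.lift (c ≫ G.e) (𝟙 F) (by rw [Category.assoc, G.e_s, Category.comp_id, Category.id_comp]) ≫
          bm G.s π hπ := by
      apply pullback.hom_ext
      · rw [Category.assoc, pullback.lift_fst, Category.assoc, bm_fst, pullback.lift_fst, ← hπ, Category.assoc]
      · rw [Category.assoc, pullback.lift_snd, Category.assoc, bm_snd, pullback.lift_snd_assoc, Category.comp_id,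
          Category.id_comp]
    rw [← Category.assoc, h1, Category.assoc, hact', ← Category.assoc]
    have h2 := A.dot_one (𝟙 F) c (by rw [Category.assoc, G.e_s, Category.comp_id, Category.id_comp])
    unfold Act.dot at h2
    rw [h2, Category.comp_id, Category.id_comp]
  have hbp : bm G.s π hπ ≫ pullback.fst G.s w ≫ G.t = pullback.fst G.s c ≫ G.t := bm_fst_assoc _ _ _ _
  have e_mul : ∀ {X : Scheme.{u}} (k : X ⟶ G.R) [Flat (k ≫ G.s)],
      mu G k w ≫ act' = bm (k ≫ G.s) act' e_c ≫ cm k G.s w ≫ act' := by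
    intro X k _
    obtain ⟨t1, t2⟩ := sd_bm (k ≫ G.s) (bm G.s π hπ) hbp
    refine sd_ext (bm (k ≫ G.s) (bm G.s π hπ) hbp) ?_
    rw [← Category.assoc, ← mu_bm G k π hπ hbp, Category.assoc, hact', reassoc_of% mu_act k A hact]
    rw [reassoc_of% (bm_comp (k ≫ G.s) (bm G.s π hπ) hbp act' e_c (by rw [Category.assoc, e_c, hbp]))]
    have h3 : bm (k ≫ G.s) A.act hact ≫ bm (k ≫ G.s) π hπ = bm (k ≫ G.s) (bm G.s π hπ ≫ act')
        (by rw [Category.assoc, e_c, hbp]) := by
      apply pullback.hom_ext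
      · simp
      · simp only [Category.assoc, bm_snd, bm_snd_assoc, hact']
    rw [← h3, Category.assoc, ← Category.assoc (bm (k ≫ G.s) π hπ), bm_cm, Category.assoc, hact']
  refine ⟨W, inferInstance, π, w, hπ, sd, ⟨act', ?_, ?_, ?_⟩, hact'.symm, ?_, hB⟩
  · intro T r z h
    rw [Category.assoc, e_c, pullback.lift_fst_assoc]
  · intro T z h
    have h1 : pullback.lift (z ≫ w ≫ G.e) z h = z ≫ pullback.lift (w ≫ G.e) (𝟙 W)
        (by rw [Category.assoc, G.e_s, Category.comp_id, Category.id_comp]) := by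
      apply pullback.hom_ext
      · rw [pullback.lift_fst, Category.assoc, pullback.lift_fst]
      · rw [pullback.lift_snd, Category.assoc, pullback.lift_snd, Category.comp_id]
    rw [h1, Category.assoc, e_one, Category.comp_id]
  · intro T r r' z h h' h₁ h₂
    haveI : Flat (𝟙 G.R ≫ G.s) := by rw [Category.id_comp]; infer_instance
    let v : T ⟶ pullback (𝟙 G.R ≫ G.s) (pullback.fst G.s w ≫ G.t) :=
      pullback.lift r (pullback.lift r' z h') (by rw [Category.id_comp, pullback.lift_fst_assoc, h])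
    have h5 := congrArg (v ≫ ·) (e_mul (𝟙 G.R))
    have v1 : v ≫ pullback.fst _ _ = r := pullback.lift_fst _ _ _
    have v2 : v ≫ pullback.snd _ _ = pullback.lift r' z h' := pullback.lift_snd _ _ _
    have h6 : v ≫ mu G (𝟙 G.R) w = pullback.lift (mul G r r' h) z h₁ := by
      apply pullback.hom_ext
      · rw [mu, Category.assoc, pullback.lift_fst, pullback.lift_fst, comp_mul]
        apply mul_congr
        · rw [reassoc_of% v1, Category.comp_id]
        · rw [reassoc_of% v2, pullback.lift_fst]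
      · rw [mu, Category.assoc, pullback.lift_snd, pullback.lift_snd, reassoc_of% v2, pullback.lift_snd]
    have h7 : v ≫ bm (𝟙 G.R ≫ G.s) act' e_c ≫ cm (𝟙 G.R) G.s w =
        pullback.lift r (pullback.lift r' z h' ≫ act') h₂ := by
      apply pullback.hom_ext
      · rw [Category.assoc, Category.assoc, cm_fst, bm_fst_assoc, reassoc_of% v1, Category.comp_id, pullback.lift_fst]
      · rw [Category.assoc, Category.assoc, cm_snd, bm_snd, reassoc_of% v2, pullback.lift_snd]
    have h8 : v ≫ mu G (𝟙 G.R) w ≫ act' = v ≫ bm (𝟙 G.R ≫ G.s) act' e_c ≫ cm (𝟙 G.R) G.s w ≫ act' := h5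
    rw [← Category.assoc, h6] at h8
    rw [h8, ← h7, Category.assoc, Category.assoc]
  · refine ⟨pullback.lift (cl ≫ G.e) (𝟙 Wl)
      (by rw [Category.assoc, G.e_s, Category.comp_id, Category.id_comp]) ≫ β, ?_⟩
    have h1 : i ≫ pullback.lift (cl ≫ G.e) (𝟙 Wl)
        (by rw [Category.assoc, G.e_s, Category.comp_id, Category.id_comp]) =
        pullback.lift (c ≫ G.e) (𝟙 F) (by rw [Category.assoc, G.e_s, Category.comp_id, Category.id_comp]) ≫
          bm G.s i hi := by
      apply pullback.hom_ext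
      · rw [Category.assoc, pullback.lift_fst, Category.assoc, bm_fst, pullback.lift_fst, ← hi, Category.assoc]
      · rw [Category.assoc, pullback.lift_snd, Category.assoc, bm_snd, pullback.lift_snd_assoc, Category.comp_id,
          Category.id_comp]
    rw [← Category.assoc, h1, Category.assoc, ← hβ, ← Category.assoc]
    have h2 := A.dot_one (𝟙 F) c (by rw [Category.assoc, G.e_s, Category.comp_id, Category.id_comp])
    unfold Act.dot at h2
    rw [h2, Category.id_comp]

end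

/-- A finite quotient with action on which finitely many idempotents are defined. -/
theorem exists_finite_act {G : Grpd.GroupoidScheme S} [IsAffine G.U] [IsLocallyNoetherian G.U] [Smooth G.s]
    [QuasiCompact G.s] [QuasiSeparated G.s] [QuasiCompact G.t] [QuasiSeparated G.t] {F : Scheme.{u}} [IsAffine F]
    {c : F ⟶ G.U} (A : Act G c) {κ : Type*} [Finite κ] (e : κ → Γ(F, ⊤)) (he : ∀ k, IsIdempotentElem (e k)) :
    ∃ (W : Scheme.{u}) (_ : IsAffine W) (π : F ⟶ W) (w : W ⟶ G.U) (_ : IsFinite w) (hπ : π ≫ w = c)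
      (_ : IsSchemeTheoreticallyDominant π) (A' : Act G w), A.act ≫ π = bm G.s π hπ ≫ A'.act ∧
      ∀ k, ∃ z : Γ(W, ⊤), π.appTop z = e k := by
  obtain ⟨Wl, _, cl, _, i, hi, _, h1⟩ := exists_lambda G.s c (fun k => A.act.appTop (e k))
    (fun k => (he k).map A.act.appTop.hom)
  obtain ⟨W, _, π, w, hπ, sd, A', h2, ⟨σ, hσ⟩, h3⟩ := exists_stable A i hi
  refine ⟨W, inferInstance, π, w, ?_, hπ, sd, A', h2, fun k => ?_⟩
  · -- finiteness
    have h4 : σ ≫ w = cl := by
      refine sd_ext i ?_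
      rw [reassoc_of% hσ, hπ, hi]
    have hinj : Function.Injective σ.appTop := by
      have h5 : Function.Injective π.appTop := Scheme.Hom.app_injective π ⊤
      rw [← hσ, Scheme.Hom.comp_appTop] at h5
      intro x y hxy
      exact h5 (congrArg i.appTop hxy)
    haveI : IsNoetherianRing Γ(G.U, ⊤) := IsLocallyNoetherian.component_noetherian ⟨⊤, isAffineOpen_top G.U⟩
    have hfin : cl.appTop.hom.Finite := by
      have := (HasAffineProperty.iff_of_isAffine (P := @IsFinite) (f := cl)).1 inferInstance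
      exact this.2
    rw [HasAffineProperty.iff_of_isAffine (P := @IsFinite)]
    refine ⟨inferInstance, ?_⟩
    have h6 : w.appTop ≫ σ.appTop = cl.appTop := by rw [← Scheme.Hom.comp_appTop, h4]
    letI := w.appTop.hom.toAlgebra
    letI := cl.appTop.hom.toAlgebra
    haveI : Module.Finite Γ(G.U, ⊤) Γ(Wl, ⊤) := hfin
    let σL : Γ(W, ⊤) →ₐ[Γ(G.U, ⊤)] Γ(Wl, ⊤) := { σ.appTop.hom with commutes' := fun r => congr($h6 r) }
    exact Module.Finite.of_injective σL.toLinearMap hinj
  · obtain ⟨y, hy⟩ := h1 k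
    exact h3 (e k) y hy.symm

end K600.Stable
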